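import Groth.Agent.Lib.BlowUp.Universal

/-!
# Pull-back of nonzerodivisors along a blow-up; regular sections
-/

universe u

open CategoryTheory AlgebraicGeometry

namespace GrothLib.BlowUp

variable {X X' : Scheme.{u}}

/-- A nonzerodivisor pulls back to a nonzerodivisor on affine opens of a blow-up on which the
exceptional ideal is generated by a nonzerodivisor. -/
lemma mem_nonZeroDivisors_appLE_blowUp {I : X.IdealSheafData} {b : X' ⟶ X}
    (hb : _root_.BlowUp.IsBlowUp b I) {U : X.affineOpens} {f : Γ(X, U.1)}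
    (hf : f ∈ nonZeroDivisors Γ(X, U.1)) {V : X'.affineOpens} (hV : V.1 ≤ b ⁻¹ᵁ U.1)
    (hcart : CartierOn (I.comap b) V) :
    b.appLE U.1 V.1 hV f ∈ nonZeroDivisors Γ(X', V.1) := by
  obtain ⟨e, he, eE⟩ := hcart
  rw [mem_nonZeroDivisors_iff_right]
  intro z hz
  apply injective_res_basicOpen he
  rw [map_zero]
  let W : X'.affineOpens := X'.affineBasicOpen e
  have hWV : W.1 ≤ V.1 := X'.basicOpen_le e
  have hflat := flat_appLE_of_le hb U W (hWV.trans hV)
    (disjoint_basicOpen_support (eE.ge (Ideal.mem_span_singleton_self e)))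
  have hn := mem_nonZeroDivisors_of_flat _ hflat hf
  have hcomp : b.appLE U.1 V.1 hV ≫ X'.presheaf.map (homOfLE hWV).op =
      b.appLE U.1 W.1 (hWV.trans hV) := Scheme.Hom.appLE_map _ _ _
  refine (mul_right_mem_nonZeroDivisors_eq_zero_iff hn).mp ?_
  rw [← hcomp, CategoryTheory.comp_apply]
  erw [← map_mul, hz, map_zero]
  rfl

lemma mem_nonZeroDivisors_of_germ {U : X.Opens} {s : Γ(X, U)}
    (h : ∀ (x : X) (hx : x ∈ U), X.presheaf.germ U x hx s ∈ nonZeroDivisors (X.presheaf.stalk x)) :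
    s ∈ nonZeroDivisors Γ(X, U) := by
  rw [mem_nonZeroDivisors_iff_right]
  intro z hz
  refine X.IsSheaf.section_ext fun x hx => ?_
  have h0 : X.presheaf.germ U x hx z = 0 := by
    refine (mul_right_mem_nonZeroDivisors_eq_zero_iff (h x hx)).mp ?_
    rw [← map_mul, hz, map_zero]
  obtain ⟨W, hxW, iU, iV, e⟩ := X.presheaf.germ_eq x hx hx z 0 (h0.trans (map_zero _).symm)
  exact ⟨W, iU.le, hxW, by rw [Subsingleton.elim (homOfLE iU.le) iU]; simpa using e⟩

lemma germ_mem_nonZeroDivisors {U : X.affineOpens} {s : Γ(X, U.1)}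
    (hs : s ∈ nonZeroDivisors Γ(X, U.1)) {x : X} (hx : x ∈ U.1) :
    X.presheaf.germ U.1 x hx s ∈ nonZeroDivisors (X.presheaf.stalk x) := by
  refine mem_nonZeroDivisors_of_flat _ ?_ hs
  algebraize [(X.presheaf.germ U.1 x hx).hom]
  let := TopCat.Presheaf.algebra_section_stalk X.presheaf (⟨x, hx⟩ : U.1)
  have := U.2.isLocalization_stalk ⟨x, hx⟩
  exact RingHom.flat_algebraMap_iff.mpr
    (IsLocalization.flat (X.presheaf.stalk x) (U.2.primeIdealOf ⟨x, hx⟩).asIdeal.primeCompl)

end GrothLib.BlowUp
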