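import Groth.Agent.Lib.BlowUp.FlatSub
import Groth.Agent.Lib.BlowUp.Regular

/-!
# Stalks of closed subschemes; flatness of a total space from a flat divisor
-/

universe u

open CategoryTheory AlgebraicGeometry TensorProduct

namespace GrothLib.BlowUp

variable {X S : Scheme.{u}}

lemma surjective_stalkMap_subschemeι (I : X.IdealSheafData) (d : I.subscheme) :
    Function.Surjective (I.subschemeι.stalkMap d) :=
  I.subschemeι.stalkMap_surjective d

/-- The stalk of a closed subscheme: the kernel of the stalk map is the extension of the ideal. -/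
lemma ker_stalkMap_subschemeι (I : X.IdealSheafData) (d : I.subscheme) (V : X.affineOpens)
    (hd : I.subschemeι d ∈ V.1) :
    RingHom.ker (I.subschemeι.stalkMap d).hom =
      (I.ideal V).map (X.presheaf.germ V.1 (I.subschemeι d) hd).hom := by
  refine le_antisymm (fun r hr => ?_) ?_
  · let algX : Algebra Γ(X, V.1) (X.presheaf.stalk (I.subschemeι d)) :=
      TopCat.Presheaf.algebra_section_stalk X.presheaf (⟨I.subschemeι d, hd⟩ : V.1)
    have hlocX : IsLocalization.AtPrime (X.presheaf.stalk (I.subschemeι d))
        (V.2.primeIdealOf ⟨I.subschemeι d, hd⟩).asIdeal := V.2.isLocalization_stalk ⟨I.subschemeι d, hd⟩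
    have hW : IsAffineOpen (I.subschemeι ⁻¹ᵁ V.1) := V.2.preimage I.subschemeι
    let algZ : Algebra Γ(I.subscheme, I.subschemeι ⁻¹ᵁ V.1) (I.subscheme.presheaf.stalk d) :=
      TopCat.Presheaf.algebra_section_stalk I.subscheme.presheaf
        (⟨d, hd⟩ : (I.subschemeι ⁻¹ᵁ V.1 : I.subscheme.Opens))
    have hlocZ : IsLocalization.AtPrime (I.subscheme.presheaf.stalk d)
        (hW.primeIdealOf ⟨d, hd⟩).asIdeal := hW.isLocalization_stalk ⟨d, hd⟩
    obtain ⟨a, s, rfl⟩ := IsLocalization.exists_mk'_eq
      (V.2.primeIdealOf ⟨I.subschemeι d, hd⟩).asIdeal.primeCompl r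
    rw [RingHom.mem_ker] at hr
    have ha0 : (I.subschemeι.stalkMap d).hom (X.presheaf.germ V.1 _ hd a) = 0 := by
      have := congrArg (I.subschemeι.stalkMap d).hom (IsLocalization.mk'_spec (X.presheaf.stalk (I.subschemeι d)) a s)
      rw [map_mul, hr, zero_mul] at this
      exact this.symm
    have ha : I.subscheme.presheaf.germ (I.subschemeι ⁻¹ᵁ V.1) d hd (I.subschemeι.app V.1 a) = 0 := by
      rw [← Scheme.Hom.germ_stalkMap_apply]
      exact ha0
    obtain ⟨⟨t, ht⟩, hta⟩ := (IsLocalization.map_eq_zero_iff (hW.primeIdealOf ⟨d, hd⟩).asIdeal.primeCompl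
      (I.subscheme.presheaf.stalk d) (I.subschemeι.app V.1 a)).mp ha
    obtain ⟨t', rfl⟩ := I.subschemeι_app_surjective V t
    have hmem : t' * a ∈ I.ideal V := by
      rw [← I.ker_subschemeι_app V, RingHom.mem_ker, map_mul]
      exact hta
    have hu : IsUnit (X.presheaf.germ V.1 _ hd t') := by
      apply (isUnit_map_iff (I.subschemeι.stalkMap d).hom _).mp
      have h1 := IsLocalization.map_units (I.subscheme.presheaf.stalk d)
        (⟨_, ht⟩ : (hW.primeIdealOf ⟨d, hd⟩).asIdeal.primeCompl)
      erw [Scheme.Hom.germ_stalkMap_apply]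
      exact h1
    rw [IsLocalization.mk'_eq_mul_mk'_one]
    refine Ideal.mul_mem_right _ _ ?_
    refine (Ideal.unit_mul_mem_iff_mem _ hu).mp ?_
    have := Ideal.mem_map_of_mem (X.presheaf.germ V.1 (I.subschemeι d) hd).hom hmem
    rwa [map_mul] at this
  · rw [Ideal.map_le_iff_le_comap]
    intro a ha
    rw [Ideal.mem_comap, RingHom.mem_ker]
    rw [← I.ker_subschemeι_app V, RingHom.mem_ker] at ha
    erw [Scheme.Hom.germ_stalkMap_apply, ha, map_zero]

section Algebra

variable {R B : Type u} [CommRing R] [CommRing B] [Algebra R B] {g : B}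

lemma injective_lTensor_mul (hg : g ∈ nonZeroDivisors B) [Module.Flat R (B ⧸ Ideal.span {g})]
    (J : Type u) [AddCommGroup J] [Module R J] :
    Function.Injective (((LinearMap.mulLeft B g).restrictScalars R).lTensor J) := by
  refine LinearMap.lTensor_injective_of_exact_of_flat
    ((Submodule.mkQ (Ideal.span {g})).restrictScalars R) (Submodule.mkQ_surjective _) _ ?_ ?_ J
  · intro x y h
    exact (mul_cancel_left_mem_nonZeroDivisors hg).mp h
  · intro z
    simp only [LinearMap.restrictScalars_apply, Submodule.mkQ_apply, Submodule.Quotient.mk_eq_zero,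
      Set.mem_range, LinearMap.mulLeft_apply]
    rw [Ideal.mem_span_singleton]
    exact ⟨fun ⟨c, hc⟩ => ⟨c, hc.symm⟩, fun ⟨c, hc⟩ => ⟨c, hc.symm⟩⟩

lemma smul_eq_rTensor (J : Type u) [AddCommGroup J] [Module R J] (z : B ⊗[R] J) :
    g • z = ((LinearMap.mulLeft B g).restrictScalars R).rTensor J z := by
  induction z using TensorProduct.induction_on with
  | zero => simp
  | tmul b j => simp [TensorProduct.smul_tmul']
  | add x y hx hy => rw [smul_add, hx, hy, map_add]

lemma injective_smul_tensor (hg : g ∈ nonZeroDivisors B) [Module.Flat R (B ⧸ Ideal.span {g})]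
    (J : Type u) [AddCommGroup J] [Module R J] :
    Function.Injective (fun z : B ⊗[R] J => g • z) := by
  have := (LinearMap.lTensor_inj_iff_rTensor_inj _ _).mp (injective_lTensor_mul (R := R) hg J)
  intro x y h
  apply this
  simpa only [← smul_eq_rTensor] using h

/-- `B` is flat if `B[1/g]` and `B/g` are, `g` a nonzerodivisor. -/
lemma flat_of_flat_away (hg : g ∈ nonZeroDivisors B) [Module.Flat R (B ⧸ Ideal.span {g})]
    (L : Type u) [CommRing L] [Algebra B L] [Algebra R L] [IsScalarTower R B L]
    [IsLocalization.Away g L] [Module.Flat R L] : Module.Flat R B := by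
  rw [Module.Flat.iff_lTensor_injective]
  intro J _
  rw [injective_iff_map_eq_zero]
  intro z hz
  let ι : B →ₗ[B] L := Algebra.linearMap B L
  have h0 : TensorProduct.AlgebraTensorModule.rTensor R J ι z = 0 := by
    have hL : Function.Injective (J.subtype.lTensor L) :=
      Module.Flat.lTensor_preserves_injective_linearMap _ Subtype.val_injective
    apply hL
    rw [map_zero]
    show J.subtype.lTensor L ((ι.restrictScalars R).rTensor J z) = 0
    rw [← LinearMap.comp_apply, LinearMap.lTensor_comp_rTensor, ← LinearMap.rTensor_comp_lTensor,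
      LinearMap.comp_apply, hz, map_zero]
  obtain ⟨⟨_, n, rfl⟩, hn⟩ := (IsLocalizedModule.eq_zero_iff (Submonoid.powers g)
    (TensorProduct.AlgebraTensorModule.rTensor R J ι)).mp h0
  replace hn : g ^ n • z = 0 := hn
  clear h0 hz
  induction n generalizing z with
  | zero => simpa using hn
  | succ n ih =>
    rw [pow_succ', mul_smul] at hn
    exact ih z (injective_smul_tensor (R := R) hg J (hn.trans (smul_zero g).symm))

/-- Local criterion along a nonzerodivisor of the maximal ideal. -/
lemma flat_of_flat_quot_noetherian [IsLocalRing B] [IsNoetherianRing B]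
    (hg : g ∈ nonZeroDivisors B) (hgm : g ∈ IsLocalRing.maximalIdeal B)
    [Module.Flat R (B ⧸ Ideal.span {g})] : Module.Flat R B := by
  rw [Module.Flat.iff_lTensor_injective]
  intro J hJ
  have : Module.Finite R J := Module.Finite.iff_fg.mpr hJ
  rw [injective_iff_map_eq_zero]
  intro z hz
  have key : ∀ (n : ℕ) (z : B ⊗[R] J), J.subtype.lTensor B z = 0 →
      z ∈ (Ideal.span {g} ^ n) • (⊤ : Submodule B (B ⊗[R] J)) := by
    intro n
    induction n with
    | zero => intro z _; simp
    | succ n ih =>
      intro z hz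
      have hP : Function.Injective (J.subtype.lTensor (B ⧸ Ideal.span {g})) :=
        Module.Flat.lTensor_preserves_injective_linearMap _ Subtype.val_injective
      let q : B →ₗ[R] B ⧸ Ideal.span {g} := (Submodule.mkQ (Ideal.span {g})).restrictScalars R
      let m : B →ₗ[R] B := (LinearMap.mulLeft B g).restrictScalars R
      have hex : Function.Exact m q := by
        intro x
        simp only [q, m, LinearMap.restrictScalars_apply, Submodule.mkQ_apply,
          Submodule.Quotient.mk_eq_zero, Set.mem_range, LinearMap.mulLeft_apply]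
        rw [Ideal.mem_span_singleton]
        exact ⟨fun ⟨c, hc⟩ => ⟨c, hc.symm⟩, fun ⟨c, hc⟩ => ⟨c, hc.symm⟩⟩
      have h0 : q.rTensor J z = 0 := by
        apply hP
        rw [map_zero, ← LinearMap.comp_apply, LinearMap.lTensor_comp_rTensor,
          ← LinearMap.rTensor_comp_lTensor, LinearMap.comp_apply, hz, map_zero]
      obtain ⟨w, rfl⟩ := ((rTensor_exact J hex (Submodule.mkQ_surjective _)) z).mp h0
      have e : m.rTensor J w = g • w := (smul_eq_rTensor J w).symm
      have hw : J.subtype.lTensor B w = 0 := by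
        apply injective_smul_tensor hg R
        simp only [smul_zero]
        rw [smul_eq_rTensor, ← LinearMap.comp_apply, LinearMap.rTensor_comp_lTensor,
          ← LinearMap.lTensor_comp_rTensor, LinearMap.comp_apply]
        exact hz
      rw [e, pow_succ', Submodule.mul_smul]
      exact Submodule.smul_mem_smul (Ideal.mem_span_singleton_self g) (ih w hw)
  have hbot := Ideal.iInf_pow_smul_eq_bot_of_isLocalRing (M := B ⊗[R] J) (Ideal.span {g})
    (fun h => (IsLocalRing.maximalIdeal.isMaximal B).ne_top
      (top_le_iff.mp (h ▸ (Ideal.span_singleton_le_iff_mem _).mpr hgm)))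
  have : z ∈ (⊥ : Submodule B (B ⊗[R] J)) := hbot ▸ (Submodule.mem_iInf _).mpr fun n => key n z hz
  simpa using this

end Algebra

end GrothLib.BlowUp
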