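import Groth.Prelude.Def_CurvBase
import Groth.Prelude.Def_Coh
import Groth.Agent.Lib.BlowUp.Regular

/-!
# Weakly associated points of the structure sheaf
-/

universe u

open CategoryTheory AlgebraicGeometry Opposite

namespace GrothLib.BlowUp

section Algebra

variable {B : Type u} [CommRing B]

/-- If `g z = 0` with `z ≠ 0` there is a prime `p ∋ g` such that the image of `z` in every localisation
at `p` has annihilator with radical the maximal ideal. -/
lemma exists_weakAss_prime {g z : B} (hz : z ≠ 0) (hgz : z * g = 0) :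
    ∃ p : Ideal B, ∃ _ : p.IsPrime, g ∈ p ∧
      ∀ (L : Type u) [CommRing L] [Algebra B L] [IsLocalization.AtPrime L p] [IsLocalRing L],
        Ideal.radical (LinearMap.ker (LinearMap.toSpanSingleton L L (algebraMap B L z))) =
          IsLocalRing.maximalIdeal L := by
  let J : Ideal B := LinearMap.ker (LinearMap.toSpanSingleton B B z)
  have memJ : ∀ a, a ∈ J ↔ a * z = 0 := fun a => by simp [J, LinearMap.mem_ker]
  have hJ : J ≠ ⊤ := fun h => hz (by simpa using (memJ 1).mp (h ▸ Submodule.mem_top))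
  obtain ⟨m, hm, hJm⟩ := Ideal.exists_le_maximal J hJ
  obtain ⟨p, hp, -⟩ := Ideal.exists_minimalPrimes_le (I := J) (J := m) hJm
  have hprime : p.IsPrime := hp.1.1
  refine ⟨p, hprime, hp.1.2 ((memJ g).mpr (by rw [mul_comm]; exact hgz)), ?_⟩
  intro L _ _ _ _
  have hmax : ∀ a, algebraMap B L a ∈ IsLocalRing.maximalIdeal L ↔ a ∈ p := fun a =>
    IsLocalization.AtPrime.to_map_mem_maximal_iff L p a
  have hker : ∀ b, b ∈ LinearMap.ker (LinearMap.toSpanSingleton L L (algebraMap B L z)) ↔
      b * algebraMap B L z = 0 := fun b => by simp [LinearMap.mem_ker]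
  apply le_antisymm
  · refine (Ideal.IsPrime.radical_le_iff inferInstance).mpr fun b hb => ?_
    obtain ⟨a, s, rfl⟩ := IsLocalization.exists_mk'_eq p.primeCompl b
    rw [hker, mul_comm, IsLocalization.mul_mk'_eq_mk'_of_mul, IsLocalization.mk'_eq_zero_iff] at hb
    obtain ⟨c, hc⟩ := hb
    have : (c : B) * a ∈ J := (memJ _).mpr (by rw [mul_assoc, mul_comm a z]; exact hc)
    have ha : a ∈ p := (hprime.mem_or_mem (hp.1.2 this)).resolve_left c.2
    rw [IsLocalization.AtPrime.mk'_mem_maximal_iff L p]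
    exact ha
  · rw [Ideal.radical_eq_sInf]
    refine le_sInf ?_
    rintro Q ⟨hQle, hQ⟩
    have : Q.IsPrime := hQ
    let q : Ideal B := Q.comap (algebraMap B L)
    have hqJ : J ≤ q := fun a ha => hQle ((hker _).mpr
      (by rw [← map_mul, (memJ a).mp ha, map_zero]))
    have hqp : q ≤ p := fun a ha => (hmax a).mp (IsLocalRing.le_maximalIdeal hQ.ne_top ha)
    have hpq : p ≤ q := hp.2 ⟨Ideal.comap_isPrime _ _, hqJ⟩ hqp
    intro b hb
    obtain ⟨a, s, rfl⟩ := IsLocalization.exists_mk'_eq p.primeCompl b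
    have ha : a ∈ p := (IsLocalization.AtPrime.mk'_mem_maximal_iff L p a s).mp hb
    rw [IsLocalization.mk'_eq_mul_mk'_one]
    exact Q.mul_mem_right _ (hpq ha)

end Algebra

variable {X : Scheme.{u}}

/-- A section of the structure sheaf, as a section of the structure module. -/
noncomputable def toUnit {W : X.Opens} (s : Γ(X, W)) :
    (Coh.structureModule X).presheaf.obj (op W) := s

lemma germ_toUnit_eq_zero_iff {W : X.Opens} {x : X} (hx : x ∈ W) (s : Γ(X, W)) :
    TopCat.Presheaf.germ (Coh.structureModule X).presheaf W x hx (toUnit s) = 0 ↔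
      X.presheaf.germ W x hx s = 0 := by
  constructor
  · intro h
    obtain ⟨W', hx', iU, iV, e⟩ := TopCat.Presheaf.germ_eq (Coh.structureModule X).presheaf x hx hx
      (toUnit s) 0 (h.trans (map_zero _).symm)
    have e' : X.presheaf.map iU.op s = 0 := e.trans (map_zero _)
    rw [← TopCat.Presheaf.germ_res_apply X.presheaf iU x hx' s]
    erw [e', map_zero]
  · intro h
    obtain ⟨W', hx', iU, iV, e⟩ := X.presheaf.germ_eq x hx hx s 0 (h.trans (map_zero _).symm)
    have e' : (Coh.structureModule X).presheaf.map iU.op (toUnit s) = 0 := e.trans (map_zero _)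
    rw [← TopCat.Presheaf.germ_res_apply (Coh.structureModule X).presheaf iU x hx' (toUnit s)]
    erw [e', map_zero]

lemma isWeakAssPoint_structureModule {x : X} {W : X.Opens} (hx : x ∈ W) (z : Γ(X, W))
    (h : Ideal.radical (LinearMap.ker (LinearMap.toSpanSingleton (X.presheaf.stalk x)
      (X.presheaf.stalk x) (X.presheaf.germ W x hx z))) = IsLocalRing.maximalIdeal _) :
    Curv2.IsWeakAssPoint (Coh.structureModule X) x := by
  refine ⟨TopCat.Presheaf.germ (Coh.structureModule X).presheaf W x hx (toUnit z), ?_⟩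
  rw [← h]
  congr 1
  ext r
  obtain ⟨V, hxV, s, rfl⟩ := X.presheaf.exists_germ_eq r
  rw [LinearMap.mem_ker, LinearMap.mem_ker, LinearMap.toSpanSingleton_apply,
    LinearMap.toSpanSingleton_apply, smul_eq_mul]
  have hW' : x ∈ V ⊓ W := ⟨hxV, hx⟩
  rw [← TopCat.Presheaf.germ_res_apply X.presheaf (homOfLE (inf_le_left : V ⊓ W ≤ V)) x hW' s,
    ← TopCat.Presheaf.germ_res_apply X.presheaf (homOfLE (inf_le_right : V ⊓ W ≤ W)) x hW' z,
    ← TopCat.Presheaf.germ_res_apply (Coh.structureModule X).presheaf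
      (homOfLE (inf_le_right : V ⊓ W ≤ W)) x hW' (toUnit z), ← map_mul]
  rw [← germ_toUnit_eq_zero_iff hW']
  erw [← PresheafOfModules.germ_smul]
  rfl

lemma exists_isWeakAssPoint_of_not_nonZeroDivisor (V : X.affineOpens) {g : Γ(X, V.1)}
    (hg : g ∉ nonZeroDivisors Γ(X, V.1)) :
    ∃ x : X, x ∈ V.1 ∧ Curv2.IsWeakAssPoint (Coh.structureModule X) x ∧ x ∉ X.basicOpen g := by
  rw [mem_nonZeroDivisors_iff_right] at hg
  push Not at hg
  obtain ⟨z, hzg, hz⟩ := hg
  obtain ⟨p, hp, hgp, hrad⟩ := exists_weakAss_prime hz hzg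
  set x : X := V.2.fromSpec ⟨p, hp⟩ with hxdef
  have hxV : x ∈ V.1 := by rw [← SetLike.mem_coe, ← V.2.range_fromSpec]; exact ⟨_, rfl⟩
  letI halg : Algebra Γ(X, V.1) (X.presheaf.stalk x) :=
    TopCat.Presheaf.algebra_section_stalk X.presheaf (⟨x, hxV⟩ : V.1)
  have hloc := V.2.isLocalization_stalk' ⟨p, hp⟩ hxV
  refine ⟨x, hxV, isWeakAssPoint_structureModule hxV z (@hrad (X.presheaf.stalk x) _ halg hloc _), fun hmem => ?_⟩
  have : (⟨p, hp⟩ : Spec Γ(X, V.1)) ∈ V.2.fromSpec ⁻¹ᵁ X.basicOpen g := hmem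
  rw [V.2.fromSpec_preimage_basicOpen] at this
  exact this hgp

end GrothLib.BlowUp
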