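import Mathlib.AlgebraicGeometry.IdealSheaf.Functorial
import Mathlib.AlgebraicGeometry.Morphisms.Affine

/-!
# Inverse image of ideal sheaves on affine opens

`(I.comap f).ideal V = (I.ideal U).map (f.appLE U V h)` for affine opens `U ⊆ Y`, `V ⊆ f⁻¹ U`.
-/

universe u

open CategoryTheory AlgebraicGeometry Scheme

namespace GrothLib.BlowUp

variable {X Y : Scheme.{u}}

lemma le_ideal_comap (I : Y.IdealSheafData) (f : X ⟶ Y) (U : Y.affineOpens) (V : X.affineOpens)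
    (h : V.1 ≤ f ⁻¹ᵁ U.1) :
    (I.ideal U).map (f.appLE U.1 V.1 h).hom ≤ (I.comap f).ideal V := by
  rw [Ideal.map_le_iff_le_comap]
  intro x hx
  have h1 := Hom.ideal_ker_le ((I.comap f).subschemeι ≫ f) U (IdealSheafData.le_map_comap I f U hx)
  rw [RingHom.mem_ker, Hom.comp_app] at h1
  rw [Ideal.mem_comap, ← (I.comap f).ker_subschemeι_app V, RingHom.mem_ker]
  have h2 := congr($((I.comap f).subschemeι.naturality (homOfLE h).op) (f.app U.1 x))
  simp only [CategoryTheory.comp_apply] at h2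
  change (I.comap f).subschemeι.app V.1 (X.presheaf.map (homOfLE h).op (f.app U.1 x)) = 0
  erw [h2]
  rw [show (I.comap f).subschemeι.app (f ⁻¹ᵁ U.1) (f.app U.1 x) = 0 from h1]
  exact map_zero _

lemma ideal_comap_eq_map_of_isAffine [IsAffine X] [IsAffine Y] (I : Y.IdealSheafData) (f : X ⟶ Y) :
    (I.comap f).ideal ⟨⊤, isAffineOpen_top X⟩ =
      (I.ideal ⟨⊤, isAffineOpen_top Y⟩).map f.appTop.hom := by
  apply le_antisymm
  · let K : X.IdealSheafData :=
      .ofIdealTop ((I.ideal ⟨⊤, isAffineOpen_top Y⟩).map f.appTop.hom)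
    have hK : K.ideal ⟨⊤, isAffineOpen_top X⟩ =
        (I.ideal ⟨⊤, isAffineOpen_top Y⟩).map f.appTop.hom := by
      simp [K]
    have hle : I.comap f ≤ K := by
      rw [← IdealSheafData.le_map_iff_comap_le]
      apply IdealSheafData.le_of_isAffine
      rw [IdealSheafData.ideal_map_of_isAffineHom]
      show _ ≤ Ideal.comap (f.app ⊤).hom (K.ideal ⟨⊤, isAffineOpen_top X⟩)
      rw [hK]
      exact Ideal.le_comap_map
    exact (hle _).trans hK.le
  · have := le_ideal_comap I f ⟨⊤, isAffineOpen_top Y⟩ ⟨⊤, isAffineOpen_top X⟩ le_top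
    simpa [Hom.appLE] using this

instance isIso_ι_appLE_top (U : X.Opens) (h : (⊤ : U.toScheme.Opens) ≤ U.ι ⁻¹ᵁ U) :
    IsIso (U.ι.appLE U ⊤ h) := by
  have : U.ι.appLE U ⊤ h = X.presheaf.map (eqToHom U.ι_image_top).op ≫ (U.ι.appIso ⊤).hom := by
    rw [Hom.appIso_hom', Hom.map_appLE]
  rw [this]
  infer_instance

lemma ideal_comap_ι_le (I : X.IdealSheafData) (U : X.affineOpens)
    (h : (⊤ : U.1.toScheme.Opens) ≤ U.1.ι ⁻¹ᵁ U.1) :
    (I.comap U.1.ι).ideal ⟨⊤, have : IsAffine U.1.toScheme := U.2; isAffineOpen_top _⟩ ≤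
      (I.ideal U).map (U.1.ι.appLE U.1 ⊤ h).hom := by
  have : IsAffine U.1.toScheme := U.2
  intro y hy
  rw [IdealSheafData.ideal_comap_of_isOpenImmersion, Ideal.mem_comap] at hy
  rw [← I.map_ideal' (eqToHom U.1.ι_image_top).op] at hy
  have := Ideal.mem_map_of_mem (U.1.ι.appIso ⊤).hom.hom hy
  rw [Ideal.map_map, ← CommRingCat.hom_comp, Hom.appIso_hom', Hom.map_appLE] at this
  have e : (U.1.ι.appIso ⊤).hom ((U.1.ι.appIso ⊤).inv y) = y := by
    rw [← CategoryTheory.comp_apply, Iso.inv_hom_id, CategoryTheory.id_apply]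
  rw [Hom.appIso_hom'] at e
  erw [e] at this
  exact this

lemma ideal_comap_eq_map (I : Y.IdealSheafData) (f : X ⟶ Y) (U : Y.affineOpens)
    (V : X.affineOpens) (h : V.1 ≤ f ⁻¹ᵁ U.1) :
    (I.comap f).ideal V = (I.ideal U).map (f.appLE U.1 V.1 h).hom := by
  refine le_antisymm ?_ (le_ideal_comap I f U V h)
  let g : V.1.toScheme ⟶ U.1.toScheme := f.resLE U.1 V.1 h
  have : IsAffine V.1.toScheme := V.2
  have : IsAffine U.1.toScheme := U.2
  have hg : g ≫ U.1.ι = V.1.ι ≫ f := Hom.resLE_comp_ι f h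
  have e := ideal_comap_eq_map_of_isAffine (I.comap U.1.ι) g
  rw [← IdealSheafData.comap_comp, hg, IdealSheafData.comap_comp] at e
  have hV : (⊤ : V.1.toScheme.Opens) ≤ V.1.ι ⁻¹ᵁ V.1 := by simp
  have hU : (⊤ : U.1.toScheme.Opens) ≤ U.1.ι ⁻¹ᵁ U.1 := by simp
  intro x hx
  have hx' : V.1.ι.appLE V.1 ⊤ hV x ∈ (((I.ideal U).map (f.appLE U.1 V.1 h).hom).map
      (V.1.ι.appLE V.1 ⊤ hV).hom) := by
    have h1 := le_ideal_comap (I.comap f) V.1.ι V ⟨⊤, isAffineOpen_top _⟩ hV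
      (Ideal.mem_map_of_mem _ hx)
    rw [e] at h1
    have h2 := Ideal.map_mono (f := g.appTop.hom) (ideal_comap_ι_le I U hU) h1
    rw [Ideal.map_map, ← CommRingCat.hom_comp] at h2 ⊢
    convert h2 using 3
    · have : U.1.ι.appLE U.1 ⊤ hU ≫ g.appTop = (g ≫ U.1.ι).appLE U.1 ⊤ (by simp) := by
        rw [← Hom.appLE_comp_appLE g U.1.ι U.1 ⊤ ⊤ hU le_top]
        simp [Hom.appLE, Hom.appTop]
        rfl
      rw [this, Hom.appLE_comp_appLE]
      simp only [hg]
  have hbij := ConcreteCategory.bijective_of_isIso (V.1.ι.appLE V.1 ⊤ hV)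
  rwa [← Ideal.mem_comap, Ideal.comap_map_of_bijective _ hbij] at hx'

end GrothLib.BlowUp
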