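import Groth.Prelude.Def_BlowUp2
import Groth.Agent.Lib.BlowUp.IdealComap
import Mathlib.AlgebraicGeometry.Morphisms.Flat
import Mathlib.RingTheory.Flat.TorsionFree

/-!
# Effective Cartier ideal sheaves: elementary API
-/

universe u

open CategoryTheory AlgebraicGeometry Scheme

namespace GrothLib.BlowUp

variable {X Y Z : Scheme.{u}}

lemma mem_nonZeroDivisors_of_flat {A B : Type*} [CommRing A] [CommRing B] (φ : A →+* B)
    (hφ : φ.Flat) {a : A} (ha : a ∈ nonZeroDivisors A) : φ a ∈ nonZeroDivisors B := by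
  algebraize [φ]
  have : IsSMulRegular A a := fun x y h => by
    simp only [smul_eq_mul] at h
    exact (mul_cancel_left_mem_nonZeroDivisors ha).mp h
  have h2 := this.of_flat (S := B)
  rw [mem_nonZeroDivisors_iff_right]
  intro x hx
  exact h2 (show φ a * x = φ a * 0 by rw [mul_zero, mul_comm]; exact hx)

lemma flat_res {U V : X.affineOpens} (h : V.1 ≤ U.1) :
    (X.presheaf.map (homOfLE h).op).hom.Flat := by
  have := Scheme.Hom.flat_appLE (𝟙 X) U.2 V.2 h
  have e : (𝟙 X : X ⟶ X).appLE U.1 V.1 h = X.presheaf.map (homOfLE h).op := by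
    simp only [Hom.appLE, Hom.id_app]
    exact Category.id_comp _
  rwa [e] at this

/-- `I` is generated by one nonzerodivisor on the affine open `U`. -/
def CartierOn (I : X.IdealSheafData) (U : X.affineOpens) : Prop :=
  ∃ f : Γ(X, U.1), f ∈ nonZeroDivisors Γ(X, U.1) ∧ I.ideal U = Ideal.span {f}

lemma isEffCartierIdeal_iff {I : X.IdealSheafData} :
    _root_.BlowUp.IsEffCartierIdeal I ↔ ∀ x : X, ∃ U : X.affineOpens, x ∈ U.1 ∧ CartierOn I U :=
  Iff.rfl

lemma exists_affine_mem_le {W : X.Opens} {x : X} (hx : x ∈ W) :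
    ∃ V : X.affineOpens, x ∈ V.1 ∧ V.1 ≤ W := by
  obtain ⟨_, ⟨V, hV, rfl⟩, hxV, hVW⟩ :=
    X.isBasis_affineOpens.exists_subset_of_mem_open (SetLike.mem_coe.2 hx) W.2
  exact ⟨⟨V, hV⟩, hxV, hVW⟩

lemma CartierOn.mono {I : X.IdealSheafData} {U V : X.affineOpens} (hI : CartierOn I U)
    (h : V.1 ≤ U.1) : CartierOn I V := by
  obtain ⟨f, hf, e⟩ := hI
  refine ⟨X.presheaf.map (homOfLE h).op f, mem_nonZeroDivisors_of_flat _ (flat_res h) hf, ?_⟩
  rw [← I.map_ideal (U := V) (V := U) h, e, Ideal.map_span, Set.image_singleton]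
  rfl

/-- An effective Cartier ideal is Cartier on small affine neighbourhoods. -/
lemma exists_cartierOn_le {I : X.IdealSheafData} (hI : _root_.BlowUp.IsEffCartierIdeal I)
    {W : X.Opens} {x : X} (hx : x ∈ W) :
    ∃ V : X.affineOpens, x ∈ V.1 ∧ V.1 ≤ W ∧ CartierOn I V := by
  obtain ⟨U, hxU, hU⟩ := hI x
  obtain ⟨V, hxV, hVle⟩ := exists_affine_mem_le (W := U.1 ⊓ W) ⟨hxU, hx⟩
  exact ⟨V, hxV, hVle.trans inf_le_right, CartierOn.mono hU (hVle.trans inf_le_left)⟩

lemma cartierOn_top (U : X.affineOpens) : CartierOn (⊤ : X.IdealSheafData) U :=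
  ⟨1, one_mem _, by simp [IdealSheafData.ideal_top]⟩

lemma CartierOn.mul {I J : X.IdealSheafData} {U : X.affineOpens} (hI : CartierOn I U)
    (hJ : CartierOn J U) : CartierOn (I * J) U := by
  obtain ⟨f, hf, e⟩ := hI
  obtain ⟨g, hg, e'⟩ := hJ
  exact ⟨f * g, mul_mem hf hg,
    by simp [IdealSheafData.ideal_mul, e, e', Ideal.span_singleton_mul_span_singleton]⟩

lemma isEffCartierIdeal_top : _root_.BlowUp.IsEffCartierIdeal (⊤ : X.IdealSheafData) := fun x => by
  obtain ⟨U, hU, -⟩ := exists_affine_mem_le (W := ⊤) (x := x) trivial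
  exact ⟨U, hU, cartierOn_top U⟩

lemma isEffCartierIdeal_mul {I J : X.IdealSheafData} (hI : _root_.BlowUp.IsEffCartierIdeal I)
    (hJ : _root_.BlowUp.IsEffCartierIdeal J) : _root_.BlowUp.IsEffCartierIdeal (I * J) := by
  intro x
  obtain ⟨U, hxU, hU⟩ := hI x
  obtain ⟨V, hxV, hVU, hV⟩ := exists_cartierOn_le hJ hxU
  exact ⟨V, hxV, (CartierOn.mono hU hVU).mul hV⟩

lemma isEffCartierIdeal_comap_of_flat (g : Y ⟶ X) [Flat g] {I : X.IdealSheafData}
    (hI : _root_.BlowUp.IsEffCartierIdeal I) : _root_.BlowUp.IsEffCartierIdeal (I.comap g) := by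
  intro y
  obtain ⟨U, hxU, f, hf, e⟩ := hI (g y)
  obtain ⟨V, hyV, hV⟩ := exists_affine_mem_le (W := g ⁻¹ᵁ U.1) (x := y) hxU
  refine ⟨V, hyV, g.appLE U.1 V.1 hV f,
    mem_nonZeroDivisors_of_flat _ (Scheme.Hom.flat_appLE g U.2 V.2 hV) hf, ?_⟩
  rw [ideal_comap_eq_map I g U V hV, e, Ideal.map_span, Set.image_singleton]

lemma exists_affine_pair (f : X ⟶ Y) (x : X) :
    ∃ (U : Y.affineOpens) (V : X.affineOpens), x ∈ V.1 ∧ V.1 ≤ f ⁻¹ᵁ U.1 := by
  obtain ⟨U, hU, -⟩ := exists_affine_mem_le (W := (⊤ : Y.Opens)) (x := f x) trivial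
  obtain ⟨V, hxV, hV⟩ := exists_affine_mem_le (W := f ⁻¹ᵁ U.1) (x := x) hU
  exact ⟨U, V, hxV, hV⟩

lemma comap_mul (I J : Y.IdealSheafData) (f : X ⟶ Y) :
    (I * J).comap f = I.comap f * J.comap f := by
  choose U V hxV hV using exists_affine_pair f
  refine IdealSheafData.ext_of_iSup_eq_top V
    (top_unique fun x _ => TopologicalSpace.Opens.mem_iSup.mpr ⟨x, hxV x⟩) fun x => ?_
  simp only [IdealSheafData.ideal_mul, Pi.mul_apply, ideal_comap_eq_map _ f (U x) (V x) (hV x),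
    Ideal.map_mul]

lemma comap_pow (I : Y.IdealSheafData) (f : X ⟶ Y) (n : ℕ) :
    (I ^ n).comap f = I.comap f ^ n := by
  induction n with
  | zero => simp [IdealSheafData.comap_top]
  | succ n ih => rw [pow_succ, pow_succ, comap_mul, ih]

/-- Being effective Cartier is local: it can be checked on an open cover. -/
lemma isEffCartierIdeal_of_forall_exists_open {I : X.IdealSheafData}
    (h : ∀ x : X, ∃ W : X.Opens, x ∈ W ∧ _root_.BlowUp.IsEffCartierIdeal (I.comap W.ι)) :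
    _root_.BlowUp.IsEffCartierIdeal I := by
  intro x
  obtain ⟨W, hxW, hW⟩ := h x
  obtain ⟨V, hxV, f, hf, e⟩ := hW (⟨x, hxW⟩ : W.toScheme)
  rw [IdealSheafData.ideal_comap_of_isOpenImmersion] at e
  refine ⟨⟨W.ι ''ᵁ V.1, V.2.image_of_isOpenImmersion W.ι⟩, ⟨⟨x, hxW⟩, hxV, rfl⟩,
    (W.ι.appIso V.1).inv f, mem_nonZeroDivisors_of_flat _ (RingHom.Flat.of_bijective
      (ConcreteCategory.bijective_of_isIso (W.ι.appIso V.1).inv)) hf, ?_⟩
  have hb := ConcreteCategory.bijective_of_isIso (W.ι.appIso V.1).inv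
  refine (Ideal.map_comap_of_surjective (W.ι.appIso V.1).inv.hom hb.2 _).symm.trans ?_
  rw [e, Ideal.map_span, Set.image_singleton]

/-- If `I * J` is generated by a nonzerodivisor on `U`, then near every point of `U` both are. -/
lemma exists_cartierOn_of_mul {I J : X.IdealSheafData} {U : X.affineOpens}
    (h : CartierOn (I * J) U) {x : X} (hx : x ∈ U.1) :
    ∃ V : X.affineOpens, x ∈ V.1 ∧ V.1 ≤ U.1 ∧ CartierOn I V ∧ CartierOn J V := by
  obtain ⟨f, hf, e⟩ := h
  simp only [IdealSheafData.ideal_mul, Pi.mul_apply] at e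
  -- at some point of the "unit locus" a single product generates
  let S : Set Γ(X, U.1) := {c | ∃ a ∈ I.ideal U, ∃ b ∈ J.ideal U, a * b = c * f}
  have hS : (1 : Γ(X, U.1)) ∈ Ideal.span S := by
    have hfm : f ∈ I.ideal U * J.ideal U := e.ge (Ideal.mem_span_singleton_self f)
    have key : ∀ z ∈ I.ideal U * J.ideal U, ∃ c ∈ Ideal.span S, z = c * f := by
      intro z hz
      refine Submodule.mul_induction_on hz ?_ ?_
      · intro a ha b hb
        obtain ⟨c, hc⟩ := Ideal.mem_span_singleton.mp (e.le (Ideal.mul_mem_mul ha hb))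
        exact ⟨c, Ideal.subset_span ⟨a, ha, b, hb, by rw [hc, mul_comm]⟩, by rw [hc, mul_comm]⟩
      · rintro _ _ ⟨c, hc, rfl⟩ ⟨d, hd, rfl⟩
        exact ⟨c + d, add_mem hc hd, by ring⟩
    obtain ⟨c, hc, hcf⟩ := key f hfm
    have : (1 : Γ(X, U.1)) = c :=
      (mul_cancel_right_mem_nonZeroDivisors hf).mp (by rw [one_mul]; exact hcf)
    rwa [this]
  obtain ⟨c, hcS, hxc⟩ : ∃ c ∈ S, x ∈ X.basicOpen c := by
    have := (U.2.self_le_iSup_basicOpen_iff (s := S)).mpr (Ideal.eq_top_iff_one _ |>.mpr hS) hx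
    obtain ⟨⟨c, hc⟩, hxc⟩ := TopologicalSpace.Opens.mem_iSup.mp this
    exact ⟨c, hc, hxc⟩
  obtain ⟨a, ha, b, hb, hab⟩ := hcS
  let V : X.affineOpens := X.affineBasicOpen c
  have hVU : V.1 ≤ U.1 := X.basicOpen_le c
  set r := (X.presheaf.map (homOfLE hVU).op).hom with hr
  have hcu : IsUnit (r c) := by
    exact RingedSpace.isUnit_res_basicOpen (X := X.toLocallyRingedSpace.toRingedSpace) c
  have hab' : r a * r b = r c * r f := by rw [← map_mul, hab, map_mul]
  have hfV : r f ∈ nonZeroDivisors Γ(X, V.1) := mem_nonZeroDivisors_of_flat _ (flat_res hVU) hf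
  have hn : r a * r b ∈ nonZeroDivisors Γ(X, V.1) := hab' ▸ mul_mem hcu.mem_nonZeroDivisors hfV
  have hna := (mul_mem_nonZeroDivisors.mp hn).1
  have hnb := (mul_mem_nonZeroDivisors.mp hn).2
  have eV : I.ideal V * J.ideal V = Ideal.span {r a * r b} := by
    rw [← I.map_ideal (U := V) (V := U) hVU, ← J.map_ideal (U := V) (V := U) hVU,
      ← Ideal.map_mul, e, Ideal.map_span, Set.image_singleton, hab',
      Ideal.span_singleton_mul_left_unit hcu]
    rfl
  have haV : r a ∈ I.ideal V := I.map_ideal (U := V) (V := U) hVU ▸ Ideal.mem_map_of_mem r ha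
  have hbV : r b ∈ J.ideal V := J.map_ideal (U := V) (V := U) hVU ▸ Ideal.mem_map_of_mem r hb
  refine ⟨V, hxc, hVU, ⟨r a, hna, le_antisymm ?_ ((Ideal.span_singleton_le_iff_mem _).mpr haV)⟩,
    ⟨r b, hnb, le_antisymm ?_ ((Ideal.span_singleton_le_iff_mem _).mpr hbV)⟩⟩
  · intro z hz
    obtain ⟨d, hd⟩ := Ideal.mem_span_singleton.mp (eV.le (Ideal.mul_mem_mul hz hbV))
    exact Ideal.mem_span_singleton.mpr
      ⟨d, (mul_cancel_right_mem_nonZeroDivisors hnb).mp (by rw [hd]; ring)⟩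
  · intro z hz
    obtain ⟨d, hd⟩ := Ideal.mem_span_singleton.mp (eV.le (Ideal.mul_mem_mul haV hz))
    exact Ideal.mem_span_singleton.mpr
      ⟨d, (mul_cancel_left_mem_nonZeroDivisors hna).mp (by rw [hd]; ring)⟩

lemma isEffCartierIdeal_factors_of_mul {I J : X.IdealSheafData}
    (h : _root_.BlowUp.IsEffCartierIdeal (I * J)) :
    _root_.BlowUp.IsEffCartierIdeal I ∧ _root_.BlowUp.IsEffCartierIdeal J := by
  refine ⟨fun x => ?_, fun x => ?_⟩ <;>
  · obtain ⟨U, hxU, hU⟩ := h x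
    obtain ⟨V, hxV, -, hI, hJ⟩ := exists_cartierOn_of_mul hU hxU
    first
      | exact ⟨V, hxV, hI⟩
      | exact ⟨V, hxV, hJ⟩

end GrothLib.BlowUp
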