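import Groth.Agent.Lib.BlowUp.EffCartier
import Mathlib.RingTheory.Flat.Equalizer

/-!
# Flatness of closed subschemes, affine by affine; relative effective Cartier divisors
-/

universe u

open CategoryTheory AlgebraicGeometry TensorProduct

namespace GrothLib.BlowUp

/-- An extension of flat modules is flat. -/
lemma flat_of_exact {R : Type u} [CommRing R] {M N P : Type u} [AddCommGroup M] [AddCommGroup N]
    [AddCommGroup P] [Module R M] [Module R N] [Module R P] [Module.Flat R M] [Module.Flat R P]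
    (g : M →ₗ[R] N) (hg : Function.Injective g) (f : N →ₗ[R] P) (hf : Function.Surjective f)
    (H : Function.Exact g f) : Module.Flat R N := by
  rw [Module.Flat.iff_lTensor_injective]
  intro I _
  rw [injective_iff_map_eq_zero]
  intro z hz
  have hM : Function.Injective (I.subtype.lTensor M) := Module.Flat.lTensor_preserves_injective_linearMap _ Subtype.val_injective
  have hP : Function.Injective (I.subtype.lTensor P) := Module.Flat.lTensor_preserves_injective_linearMap _ Subtype.val_injective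
  have hz2 : f.rTensor I z = 0 := by
    apply hP
    rw [map_zero, ← LinearMap.comp_apply, LinearMap.lTensor_comp_rTensor,
      ← LinearMap.rTensor_comp_lTensor, LinearMap.comp_apply, hz, map_zero]
  obtain ⟨y, rfl⟩ := ((rTensor_exact I H hf) z).mp hz2
  have hy : I.subtype.lTensor M y = 0 := by
    have hgR : Function.Injective (g.rTensor R) := Module.Flat.rTensor_preserves_injective_linearMap g hg
    apply hgR
    rw [map_zero, ← LinearMap.comp_apply, LinearMap.rTensor_comp_lTensor,
      ← LinearMap.lTensor_comp_rTensor, LinearMap.comp_apply, hz]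
  rw [hM (hy.trans (map_zero _).symm), map_zero]

/-- The kernel of a surjection of flat modules is flat. -/
lemma flat_of_exact_left {R : Type u} [CommRing R] {M N P : Type u} [AddCommGroup M] [AddCommGroup N]
    [AddCommGroup P] [Module R M] [Module R N] [Module R P] [Module.Flat R N] [Module.Flat R P]
    (g : M →ₗ[R] N) (hg : Function.Injective g) (f : N →ₗ[R] P) (hf : Function.Surjective f)
    (H : Function.Exact g f) : Module.Flat R M := by
  rw [Module.Flat.iff_lTensor_injective]
  intro I _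
  have hN : Function.Injective (I.subtype.lTensor N) := Module.Flat.lTensor_preserves_injective_linearMap _ Subtype.val_injective
  have hgI : Function.Injective (g.rTensor I) := by
    rw [← LinearMap.lTensor_inj_iff_rTensor_inj]
    exact LinearMap.lTensor_injective_of_exact_of_flat f hf g hg H I
  intro x y hxy
  apply hgI
  apply hN
  rw [← LinearMap.comp_apply, ← LinearMap.comp_apply, LinearMap.lTensor_comp_rTensor,
    ← LinearMap.rTensor_comp_lTensor, LinearMap.comp_apply, LinearMap.comp_apply, hxy]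

section QuotientSeq

variable {R A : Type u} [CommRing R] [CommRing A] [Algebra R A] {f g : A}

/-- Multiplication by `f` from `A/(g)` to `A/(f g)`. -/
def mulQuot (f g : A) : (A ⧸ Ideal.span {g}) →ₗ[A] A ⧸ Ideal.span {f * g} :=
  Submodule.mapQ _ _ (LinearMap.mulLeft A f) (by
    intro x hx
    obtain ⟨c, rfl⟩ := Ideal.mem_span_singleton.mp hx
    exact Ideal.mem_span_singleton.mpr ⟨c, by simp [mul_assoc]⟩)

/-- The projection `A/(f g) → A/(f)`. -/
def projQuot (f g : A) : (A ⧸ Ideal.span {f * g}) →ₗ[A] A ⧸ Ideal.span {f} :=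
  Submodule.mapQ _ _ LinearMap.id (fun x hx => by
    obtain ⟨c, rfl⟩ := Ideal.mem_span_singleton.mp hx
    exact Ideal.mem_span_singleton.mpr ⟨g * c, by simp [mul_assoc]⟩)

lemma mulQuot_injective (hf : f ∈ nonZeroDivisors A) : Function.Injective (mulQuot f g) := by
  rw [injective_iff_map_eq_zero]
  intro z hz
  obtain ⟨x, rfl⟩ := Submodule.Quotient.mk_surjective _ z
  erw [Submodule.mapQ_apply, Submodule.Quotient.mk_eq_zero] at hz
  obtain ⟨c, hc⟩ := Ideal.mem_span_singleton.mp hz
  rw [Submodule.Quotient.mk_eq_zero]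
  refine Ideal.mem_span_singleton.mpr ⟨c, (mul_cancel_left_mem_nonZeroDivisors hf).mp ?_⟩
  simpa [mul_assoc] using hc

lemma projQuot_surjective : Function.Surjective (projQuot f g) := by
  intro z
  obtain ⟨x, rfl⟩ := Submodule.Quotient.mk_surjective _ z
  exact ⟨Submodule.Quotient.mk x, rfl⟩

lemma exact_mulQuot_projQuot : Function.Exact (mulQuot f g) (projQuot f g) := by
  intro z
  obtain ⟨x, rfl⟩ := Submodule.Quotient.mk_surjective _ z
  erw [Submodule.mapQ_apply, Submodule.Quotient.mk_eq_zero]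
  constructor
  · intro hx
    obtain ⟨c, rfl⟩ := Ideal.mem_span_singleton.mp hx
    exact ⟨Submodule.Quotient.mk c, rfl⟩
  · rintro ⟨w, hw⟩
    obtain ⟨c, rfl⟩ := Submodule.Quotient.mk_surjective _ w
    erw [Submodule.mapQ_apply, Submodule.Quotient.eq] at hw
    obtain ⟨d, hd⟩ := Ideal.mem_span_singleton.mp hw
    simp only [LinearMap.mulLeft_apply] at hd
    exact Ideal.mem_span_singleton.mpr ⟨c - g * d, by linear_combination -hd⟩

lemma flat_quot_mul (hf : f ∈ nonZeroDivisors A) [Module.Flat R (A ⧸ Ideal.span {g})]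
    [Module.Flat R (A ⧸ Ideal.span {f})] : Module.Flat R (A ⧸ Ideal.span {f * g}) :=
  flat_of_exact ((mulQuot f g).restrictScalars R) (mulQuot_injective hf)
    ((projQuot f g).restrictScalars R) projQuot_surjective exact_mulQuot_projQuot

lemma flat_quot_right (hf : f ∈ nonZeroDivisors A) [Module.Flat R (A ⧸ Ideal.span {f * g})]
    [Module.Flat R (A ⧸ Ideal.span {f})] : Module.Flat R (A ⧸ Ideal.span {g}) :=
  flat_of_exact_left ((mulQuot f g).restrictScalars R) (mulQuot_injective hf)
    ((projQuot f g).restrictScalars R) projQuot_surjective exact_mulQuot_projQuot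

end QuotientSeq

variable {X S : Scheme.{u}} (f : X ⟶ S) (I : X.IdealSheafData)

lemma subscheme_appLE_eq (U : S.affineOpens) (V : X.affineOpens) (e : V.1 ≤ f ⁻¹ᵁ U.1) :
    (I.subschemeι ≫ f).appLE U.1 (I.subschemeι ⁻¹ᵁ V.1) (fun x hx => e hx) =
      (f.appLE U.1 V.1 e ≫ CommRingCat.ofHom (Ideal.Quotient.mk (I.ideal V))) ≫
        (I.subschemeObjIso V).inv := by
  rw [← Scheme.Hom.appLE_comp_appLE I.subschemeι f U.1 V.1 _ e le_rfl, Category.assoc,
    ← Scheme.IdealSheafData.subschemeι_app, Scheme.Hom.app_eq_appLE]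

lemma flat_quot_of_flat [Flat (I.subschemeι ≫ f)] (U : S.affineOpens) (V : X.affineOpens)
    (e : V.1 ≤ f ⁻¹ᵁ U.1) :
    ((Ideal.Quotient.mk (I.ideal V)).comp (f.appLE U.1 V.1 e).hom).Flat := by
  have := Scheme.Hom.flat_appLE (I.subschemeι ≫ f) U.2 (V.2.preimage I.subschemeι)
    (fun x hx => e hx)
  rw [subscheme_appLE_eq f I U V e] at this
  exact (RingHom.Flat.respectsIso.cancel_right_isIso _ _).mp this

lemma flat_of_forall_exists
    (h : ∀ x : X, ∃ (U : S.affineOpens) (V : X.affineOpens) (e : V.1 ≤ f ⁻¹ᵁ U.1),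
      x ∈ V.1 ∧ ((Ideal.Quotient.mk (I.ideal V)).comp (f.appLE U.1 V.1 e).hom).Flat) :
    Flat (I.subschemeι ≫ f) := by
  rw [HasRingHomProperty.iff_exists_appLE (P := @Flat)
    (RingHom.Flat.stableUnderComposition.stableUnderCompositionWithLocalizationAway
      RingHom.Flat.holdsForLocalizationAway).1]
  intro d
  obtain ⟨U, V, e, hd, hfl⟩ := h (I.subschemeι d)
  refine ⟨U, ⟨_, V.2.preimage I.subschemeι⟩, hd, fun x hx => e hx, ?_⟩
  rw [subscheme_appLE_eq f I U V e]
  exact (RingHom.Flat.respectsIso.cancel_right_isIso _ _).mpr hfl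

variable {f I}

lemma exists_pair_cartierOn {J : X.IdealSheafData} (hI : _root_.BlowUp.IsEffCartierIdeal I)
    (hJ : _root_.BlowUp.IsEffCartierIdeal J) (x : X) :
    ∃ (U : S.affineOpens) (V : X.affineOpens), x ∈ V.1 ∧ V.1 ≤ f ⁻¹ᵁ U.1 ∧
      CartierOn I V ∧ CartierOn J V := by
  obtain ⟨U, hU, -⟩ := exists_affine_mem_le (W := (⊤ : S.Opens)) (x := f x) trivial
  obtain ⟨V₁, hx₁, hV₁, hI₁⟩ := exists_cartierOn_le hI (W := f ⁻¹ᵁ U.1) (x := x) hU
  obtain ⟨V, hxV, hV, hJV⟩ := exists_cartierOn_le hJ (W := V₁.1) (x := x) hx₁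
  exact ⟨U, V, hxV, hV.trans hV₁, CartierOn.mono hI₁ hV, hJV⟩

theorem relEffCartier_mul {J : X.IdealSheafData} (hI : _root_.BlowUp.IsEffCartierIdeal I)
    (hJ : _root_.BlowUp.IsEffCartierIdeal J) [Flat (I.subschemeι ≫ f)] [Flat (J.subschemeι ≫ f)] :
    Flat ((I * J).subschemeι ≫ f) := by
  refine flat_of_forall_exists f (I * J) fun x => ?_
  obtain ⟨U, V, hxV, hV, ⟨a, ha, ea⟩, b, hb, eb⟩ := exists_pair_cartierOn (f := f) hI hJ x
  refine ⟨U, V, hV, hxV, ?_⟩
  have h1 := flat_quot_of_flat f I U V hV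
  have h2 := flat_quot_of_flat f J U V hV
  rw [ea] at h1
  rw [eb] at h2
  rw [show (I * J).ideal V = Ideal.span {a * b} by
    simp [Scheme.IdealSheafData.ideal_mul, ea, eb, Ideal.span_singleton_mul_span_singleton]]
  algebraize [(f.appLE U.1 V.1 hV).hom]
  have : Module.Flat Γ(S, U.1) (Γ(X, V.1) ⧸ Ideal.span {a}) := RingHom.flat_algebraMap_iff.mp h1
  have : Module.Flat Γ(S, U.1) (Γ(X, V.1) ⧸ Ideal.span {b}) := RingHom.flat_algebraMap_iff.mp h2
  exact RingHom.flat_algebraMap_iff.mpr (flat_quot_mul (R := Γ(S, U.1)) ha)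

theorem relEffCartier_difference {J : X.IdealSheafData} (hI : _root_.BlowUp.IsEffCartierIdeal I)
    (hJ : _root_.BlowUp.IsEffCartierIdeal J) [Flat (I.subschemeι ≫ f)]
    [Flat ((I * J).subschemeι ≫ f)] : Flat (J.subschemeι ≫ f) := by
  refine flat_of_forall_exists f J fun x => ?_
  obtain ⟨U, V, hxV, hV, ⟨a, ha, ea⟩, b, hb, eb⟩ := exists_pair_cartierOn (f := f) hI hJ x
  refine ⟨U, V, hV, hxV, ?_⟩
  have h1 := flat_quot_of_flat f I U V hV
  have h2 := flat_quot_of_flat f (I * J) U V hV
  rw [ea] at h1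
  rw [show (I * J).ideal V = Ideal.span {a * b} by
    simp [Scheme.IdealSheafData.ideal_mul, ea, eb, Ideal.span_singleton_mul_span_singleton]] at h2
  rw [eb]
  algebraize [(f.appLE U.1 V.1 hV).hom]
  have : Module.Flat Γ(S, U.1) (Γ(X, V.1) ⧸ Ideal.span {a}) := RingHom.flat_algebraMap_iff.mp h1
  have : Module.Flat Γ(S, U.1) (Γ(X, V.1) ⧸ Ideal.span {a * b}) := RingHom.flat_algebraMap_iff.mp h2
  exact RingHom.flat_algebraMap_iff.mpr (flat_quot_right (R := Γ(S, U.1)) ha)

end GrothLib.BlowUp
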