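import Groth.Agent.Lib.BlowUp.StalkIdeal
import Groth.Agent.Lib.WeakAss.Structure
import Groth.Agent.Lib.BlowUp.WeakAss
import Mathlib.RingTheory.Ideal.Height
import Mathlib.RingTheory.Ideal.KrullsHeightTheorem
import Mathlib.RingTheory.UniqueFactorizationDomain.Basic

/-!
# Effective Cartier divisors from factoriality
-/

universe u

open CategoryTheory AlgebraicGeometry

namespace GrothLib.BlowUp

section Algebra

variable {A : Type u} [CommRing A]

lemma exists_prime_colon [IsNoetherianRing A] {J : Ideal A} (hJ : J ≠ ⊤) :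
    ∃ (Q : Ideal A) (a : A), Q.IsPrime ∧ J ≤ Q ∧ ∀ r, r ∈ Q ↔ r * a ∈ J := by
  let S : Set (Ideal A) := {K | ∃ a ∉ J, ∀ r, r ∈ K ↔ r * a ∈ J}
  have hS : S.Nonempty := ⟨J, 1, fun h => hJ ((Ideal.eq_top_iff_one J).mpr h), fun r => by rw [mul_one]⟩
  obtain ⟨Q, ⟨a, ha, hQ⟩, hmax⟩ := set_has_maximal_iff_noetherian.mpr inferInstance S hS
  refine ⟨Q, a, ⟨?_, fun {x y} hxy => ?_⟩, fun r hr => (hQ r).mpr (J.mul_mem_right _ hr), hQ⟩
  · intro htop
    exact ha (by simpa using (hQ 1).mp (htop ▸ Submodule.mem_top))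
  · refine or_iff_not_imp_left.mpr fun hx => ?_
    rw [hQ] at hx hxy
    have : ∀ r, r ∈ J.colon {x * a} ↔ r * (x * a) ∈ J := fun r => by
      rw [Submodule.mem_colon_singleton, smul_eq_mul]
    have hle : Q ≤ J.colon {x * a} := fun r hr => (this r).mpr (by
      have := J.mul_mem_left x ((hQ r).mp hr)
      rwa [mul_left_comm] at this)
    have heq : Q = J.colon {x * a} := (eq_or_lt_of_le hle).resolve_right
      (hmax _ ⟨x * a, hx, this⟩)
    rw [heq, this]
    rwa [mul_left_comm, ← mul_assoc]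

lemma exists_span_of_height_one [IsDomain A] [UniqueFactorizationMonoid A] [IsNoetherianRing A]
    {Q : Ideal A} [Q.IsPrime] (hQ : Q.height = 1) : ∃ π, Q = Ideal.span {π} ∧ π ≠ 0 := by
  have hne : Q ≠ ⊥ := by
    intro h
    subst h
    simp [Ideal.height_bot] at hQ
  obtain ⟨π, hπQ, hπ⟩ := Ideal.IsPrime.exists_mem_prime_of_ne_bot inferInstance hne
  have : (Ideal.span {π}).IsPrime := (Ideal.span_singleton_prime hπ.ne_zero).mpr hπ
  refine ⟨π, ((eq_or_lt_of_le ((Ideal.span_singleton_le_iff_mem Q).mpr hπQ)).resolve_right fun hlt => ?_).symm,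
    hπ.ne_zero⟩
  have h1 := Ideal.height_strict_mono_of_isPrime hlt
  rw [hQ, ENat.lt_one_iff_eq_zero, Ideal.height_eq_zero_iff,
    IsDomain.minimalPrimes_eq_singleton_bot, Set.mem_singleton_iff, Ideal.span_singleton_eq_bot] at h1
  exact hπ.ne_zero h1

theorem exists_span_singleton_of_colon_height_one [IsDomain A] [UniqueFactorizationMonoid A]
    [IsNoetherianRing A] [IsLocalRing A] (J : Ideal A)
    (h : ∀ Q : Ideal A, Q.IsPrime → ∀ a, (∀ r, r ∈ Q ↔ r * a ∈ J) → Q.height = 1) :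
    ∃ f, f ≠ 0 ∧ J = Ideal.span {f} := by
  induction J using IsNoetherian.induction with
  | hgt J ih =>
    by_cases htop : J = ⊤
    · exact ⟨1, one_ne_zero, htop.trans Ideal.span_singleton_one.symm⟩
    obtain ⟨Q, a, hQ, hJQ, hQa⟩ := exists_prime_colon htop
    obtain ⟨π, rfl, hπ⟩ := exists_span_of_height_one (h Q hQ a hQa)
    set J' := J.colon {π}
    have hJ' : ∀ r, r ∈ J' ↔ r * π ∈ J := fun r => by
      rw [Submodule.mem_colon_singleton, smul_eq_mul]
    have hprod : J = Ideal.span {π} * J' := by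
      refine le_antisymm (fun x hx => ?_) (Ideal.span_singleton_mul_le_iff.mpr fun z hz => ?_)
      · obtain ⟨d, rfl⟩ := Ideal.mem_span_singleton.mp (hJQ hx)
        exact Ideal.mul_mem_mul (Ideal.mem_span_singleton_self π) ((hJ' d).mpr (by rwa [mul_comm]))
      · rw [mul_comm]; exact (hJ' z).mp hz
    have hlt : J < J' := by
      refine lt_of_le_of_ne (fun r hr => (hJ' r).mpr (Ideal.mul_mem_right _ J hr)) fun heq => ?_
      have hJ0 : J = ⊥ := Submodule.eq_bot_of_le_smul_of_le_jacobson_bot (Ideal.span {π}) J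
        (IsNoetherian.noetherian J)
        (by rw [smul_eq_mul]; exact (hprod.le.trans (by rw [← heq])))
        ((IsLocalRing.le_maximalIdeal hQ.ne_top).trans (IsLocalRing.maximalIdeal_le_jacobson ⊥))
      have := h ⊥ Ideal.isPrime_bot 1 (fun r => by rw [mul_one, hJ0])
      simp [Ideal.height_bot] at this
    obtain ⟨g, hg, hJg⟩ := ih J' hlt fun Q' hQ' b hb => h Q' hQ' (π * b) fun r => by
      rw [hb, hJ']; ring_nf
    exact ⟨π * g, mul_ne_zero hπ hg, by rw [hprod, hJg, Ideal.span_singleton_mul_span_singleton]⟩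

end Algebra

variable {X : Scheme.{u}}

lemma primeAt_map {Y : Scheme.{u}} (f : Y ⟶ X) {U : X.Opens} {y : Y} (hy : f y ∈ U) :
    WeakAss.primeAt (f y) hy = (WeakAss.primeAt y (V := f ⁻¹ᵁ U) hy).comap (f.app U).hom := by
  ext a
  rw [Ideal.mem_comap, WeakAss.primeAt, WeakAss.primeAt, Ideal.mem_comap, Ideal.mem_comap,
    ← not_iff_not, IsLocalRing.notMem_maximalIdeal, IsLocalRing.notMem_maximalIdeal]
  have := Scheme.Hom.germ_stalkMap_apply f U y hy a
  exact ⟨fun h => this ▸ h.map (f.stalkMap y).hom,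
    fun h => (isUnit_map_iff (f.stalkMap y).hom _).mp (this.symm ▸ h)⟩

lemma isAssociatedPrime_of_isWeakAssPoint {x : X}
    (hw : Curv2.IsWeakAssPoint (Coh.structureModule X) x) :
    IsAssociatedPrime (IsLocalRing.maximalIdeal ↑(X.presheaf.stalk x)) ↑(X.presheaf.stalk x) := by
  obtain ⟨m, hm⟩ := hw
  obtain ⟨W, hxW, t, rfl⟩ := TopCat.Presheaf.exists_germ_eq (Coh.structureModule X).presheaf m
  refine ⟨Ideal.IsMaximal.isPrime inferInstance, X.presheaf.germ W x hxW t, ?_⟩
  refine hm.symm.trans ?_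
  congr 1
  ext r
  obtain ⟨W', hxW', r, rfl⟩ := X.presheaf.exists_germ_eq r
  rw [LinearMap.mem_ker, Submodule.mem_colon_singleton, Submodule.mem_bot,
    LinearMap.toSpanSingleton_apply, smul_eq_mul]
  rw [← TopCat.Presheaf.germ_res_apply X.presheaf (homOfLE (inf_le_left : W' ⊓ W ≤ W')) x ⟨hxW', hxW⟩ r]
  erw [← TopCat.Presheaf.germ_res_apply X.presheaf (homOfLE (inf_le_right : W' ⊓ W ≤ W)) x ⟨hxW', hxW⟩ t,
    ← TopCat.Presheaf.germ_res_apply (Coh.structureModule X).presheaf (homOfLE (inf_le_right : W' ⊓ W ≤ W)) x ⟨hxW', hxW⟩ t,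
    ← map_mul, ← WeakAss.germ_smul]
  exact germ_toUnit_eq_zero_iff _ _

lemma ringKrullDim_stalk_eq_height {V : X.Opens} (hV : IsAffineOpen V) {x : X} (hx : x ∈ V) :
    ringKrullDim (X.presheaf.stalk x) = (WeakAss.primeAt x hx).height := by
  obtain ⟨P, rfl⟩ := hV.range_fromSpec.ge hx
  let : Algebra Γ(X, V) (X.presheaf.stalk (hV.fromSpec P)) :=
    TopCat.Presheaf.algebra_section_stalk X.presheaf (⟨_, hx⟩ : V)
  have : IsLocalization.AtPrime (X.presheaf.stalk (hV.fromSpec P)) P.asIdeal :=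
    hV.isLocalization_stalk' P hx
  rw [WeakAss.primeAt_fromSpec hV P hx]
  exact IsLocalization.AtPrime.ringKrullDim_eq_height P.asIdeal _

/-- Near a point with factorial local ring, a closed subscheme all of whose weakly associated points
have codimension one is an effective Cartier divisor. -/
theorem exists_cartierOn_of_ufd [IsLocallyNoetherian X] (I : X.IdealSheafData)
    (hcodim : ∀ z : I.subscheme, Curv2.IsWeakAssPoint (Coh.structureModule I.subscheme) z →
      ringKrullDim (X.presheaf.stalk (I.subschemeι z)) = 1)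
    (x : X) [IsDomain (X.presheaf.stalk x)] [UniqueFactorizationMonoid (X.presheaf.stalk x)] :
    ∃ U : X.affineOpens, x ∈ U.1 ∧ CartierOn I U := by
  obtain ⟨V, hxV, -⟩ := exists_affine_mem_le (W := (⊤ : X.Opens)) (x := x) trivial
  obtain ⟨P, rfl⟩ := V.2.range_fromSpec.ge hxV
  set x := V.2.fromSpec P
  let algX : Algebra Γ(X, V.1) (X.presheaf.stalk x) :=
    TopCat.Presheaf.algebra_section_stalk X.presheaf (⟨x, hxV⟩ : V.1)
  have hloc : IsLocalization.AtPrime (X.presheaf.stalk x) P.asIdeal :=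
    V.2.isLocalization_stalk' P hxV
  have : IsNoetherianRing Γ(X, V.1) := IsLocallyNoetherian.component_noetherian V
  have : IsNoetherianRing (X.presheaf.stalk x) :=
    IsLocalization.isNoetherianRing P.asIdeal.primeCompl _ inferInstance
  set J := (I.ideal V).map (algebraMap Γ(X, V.1) (X.presheaf.stalk x))
  obtain ⟨f, hf, hJ⟩ := exists_span_singleton_of_colon_height_one J fun Q hQ a hQa => by
    obtain ⟨b, s, rfl⟩ := IsLocalization.exists_mk'_eq P.asIdeal.primeCompl a
    set q := Q.comap (algebraMap Γ(X, V.1) (X.presheaf.stalk x))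
    have hq : ∀ r, r ∈ q ↔ ∃ c ∉ P.asIdeal, c * (r * b) ∈ I.ideal V := fun r => by
      rw [Ideal.mem_comap, hQa, IsLocalization.mul_mk'_eq_mk'_of_mul,
        IsLocalization.mk'_mem_map_algebraMap_iff P.asIdeal.primeCompl]
      rfl
    obtain ⟨S, hS⟩ := IsNoetherian.noetherian q
    have key : ∀ r ∈ q, ∃ c ∉ P.asIdeal, c * (r * b) ∈ I.ideal V := fun r hr => (hq r).mp hr
    choose! c hc hcb using key
    set c₀ := ∏ r ∈ S, c r
    have hc₀ : c₀ ∉ P.asIdeal := by
      rw [Ideal.IsPrime.prod_mem_iff]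
      rintro ⟨r, hr, hcr⟩
      exact hc r (hS ▸ Ideal.subset_span hr) hcr
    set W := I.subschemeι ⁻¹ᵁ V.1
    have hW : IsAffineOpen W := V.2.preimage I.subschemeι
    set ρ := (I.subschemeι.app V.1).hom
    have hρ : Function.Surjective ρ := I.subschemeι_app_surjective V
    have hker : RingHom.ker ρ = I.ideal V := I.ker_subschemeι_app V
    have hann : (WeakAss.annSec (WeakAss.toModSec (ρ (c₀ * b)))).comap ρ = q := by
      ext r
      rw [Ideal.mem_comap, WeakAss.mem_annSec_structure, ← map_mul]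
      constructor
      · intro h
        refine (hq r).mpr ⟨c₀, hc₀, ?_⟩
        rw [← hker, RingHom.mem_ker, mul_left_comm]
        exact h
      · intro hr
        rw [← RingHom.mem_ker, hker]
        rw [← hS] at hr
        refine Submodule.span_induction (fun r hrS => ?_) (by rw [zero_mul]; exact zero_mem _) ?_ ?_ hr
        · obtain ⟨d, hd⟩ := Finset.dvd_prod_of_mem c (SetLike.mem_coe.1 hrS)
          rw [show r * (c₀ * b) = d * (c r * (r * b)) by simp only [c₀, hd]; ring]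
          exact Ideal.mul_mem_left _ d (hcb r (hS ▸ Ideal.subset_span hrS))
        · intro r r' _ _ h h'; rw [add_mul]; exact add_mem h h'
        · intro t r _ h; rw [smul_eq_mul, mul_assoc]; exact Ideal.mul_mem_left _ t h
    set K := WeakAss.annSec (WeakAss.toModSec (ρ (c₀ * b)))
    have hK : K.IsPrime := by
      have : (K.comap ρ).IsPrime := hann ▸ Ideal.comap_isPrime _ _
      exact (Ideal.map_comap_of_surjective ρ hρ K) ▸ Ideal.map_isPrime_of_surjective hρ
        (Ideal.comap_mono (bot_le : (⊥ : Ideal _) ≤ K))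
    set z := hW.fromSpec ⟨K, hK⟩
    have hzW : z ∈ W := WeakAss.fromSpec_mem hW ⟨K, hK⟩
    have hzp : WeakAss.primeAt z hzW = K := WeakAss.primeAt_fromSpec hW ⟨K, hK⟩ hzW
    have hweak : Curv2.IsWeakAssPoint (Coh.structureModule I.subscheme) z :=
      WeakAss.isWeakAssPoint_of_minimal hW (WeakAss.toModSec (ρ (c₀ * b))) (hx := hzW)
        (by rw [hzp]; exact (Ideal.minimalPrimes_eq_subsingleton_self (I := K)).symm ▸ rfl)
    have hdim := hcodim z hweak
    rw [ringKrullDim_stalk_eq_height V.2 (x := I.subschemeι z) hzW, primeAt_map I.subschemeι (y := z) hzW,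
      hzp, hann, IsLocalization.height_comap P.asIdeal.primeCompl Q] at hdim
    exact_mod_cast hdim
  -- spread out
  obtain ⟨g, s, rfl⟩ := IsLocalization.exists_mk'_eq P.asIdeal.primeCompl f
  have hu : IsUnit (algebraMap Γ(X, V.1) (X.presheaf.stalk x) (s : Γ(X, V.1))) :=
    IsLocalization.map_units _ s
  have hJ' : J = Ideal.span {algebraMap Γ(X, V.1) (X.presheaf.stalk x) g} := by
    rw [hJ, ← IsLocalization.mk'_spec (X.presheaf.stalk x) g s, Ideal.span_singleton_mul_right_unit hu]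
  have hg0 : algebraMap Γ(X, V.1) (X.presheaf.stalk x) g ≠ 0 := fun h0 =>
    hf ((IsLocalization.mk'_eq_zero_iff g s).mpr
      ((IsLocalization.map_eq_zero_iff P.asIdeal.primeCompl _ g).mp h0))
  obtain ⟨c₁, hc₁, hgI⟩ : ∃ c₁ ∉ P.asIdeal, c₁ * g ∈ I.ideal V :=
    (IsLocalization.algebraMap_mem_map_algebraMap_iff P.asIdeal.primeCompl _ _ g).mp
      (hJ'.ge (Ideal.mem_span_singleton_self _))
  have key : ∀ r ∈ I.ideal V, ∃ c ∉ P.asIdeal, c * r ∈ Ideal.span {g} := fun r hr => by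
    refine (IsLocalization.algebraMap_mem_map_algebraMap_iff P.asIdeal.primeCompl (X.presheaf.stalk x) _ r).mp ?_
    rw [Ideal.map_span, Set.image_singleton, ← hJ']
    exact Ideal.mem_map_of_mem _ hr
  choose! c hc hcr using key
  have key₂ : ∀ r, r * g = 0 → ∃ d ∉ P.asIdeal, d * r = 0 := fun r hr => by
    have h0 : algebraMap Γ(X, V.1) (X.presheaf.stalk x) r = 0 := by
      refine (mul_eq_zero.mp ?_).resolve_right hg0
      rw [← map_mul, hr, map_zero]
    obtain ⟨⟨d, hd⟩, e⟩ := (IsLocalization.map_eq_zero_iff P.asIdeal.primeCompl _ r).mp h0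
    exact ⟨d, hd, e⟩
  choose! d hd hdr using key₂
  obtain ⟨S, hS⟩ := IsNoetherian.noetherian (I.ideal V)
  let Kg : Ideal Γ(X, V.1) := LinearMap.ker (LinearMap.toSpanSingleton Γ(X, V.1) Γ(X, V.1) g)
  obtain ⟨T, hT⟩ := IsNoetherian.noetherian Kg
  have hTg : ∀ r ∈ T, r * g = 0 := fun r hr => by
    have : r ∈ Kg := hT ▸ Ideal.subset_span hr
    simpa [Kg, LinearMap.mem_ker] using this
  set e := c₁ * (∏ r ∈ S, c r) * (∏ r ∈ T, d r) with he
  have heP : e ∉ P.asIdeal := by
    refine fun h => (P.isPrime.mem_or_mem h).elim (fun h => (P.isPrime.mem_or_mem h).elim hc₁ fun h => ?_) fun h => ?_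
    · rw [Ideal.IsPrime.prod_mem_iff] at h
      obtain ⟨r, hr, hcr'⟩ := h
      exact hc r (hS ▸ Ideal.subset_span hr) hcr'
    · rw [Ideal.IsPrime.prod_mem_iff] at h
      obtain ⟨r, hr, hcr'⟩ := h
      exact hd r (hTg r hr) hcr'
  let U : X.affineOpens := X.affineBasicOpen e
  have hUV : U.1 ≤ V.1 := X.basicOpen_le e
  have hxU : x ∈ U.1 := (WeakAss.notMem_primeAt_iff (hx := hxV)).mp (by
    rw [WeakAss.primeAt_fromSpec V.2 P hxV]; exact heP)
  let algU : Algebra Γ(X, V.1) Γ(X, U.1) := (X.presheaf.map (homOfLE hUV).op).hom.toAlgebra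
  have : IsLocalization.Away e Γ(X, U.1) := V.2.isLocalization_basicOpen e
  set ρ := (X.presheaf.map (homOfLE hUV).op).hom
  have halg : ρ = algebraMap Γ(X, V.1) Γ(X, U.1) := rfl
  have heu : IsUnit (ρ e) :=
    RingedSpace.isUnit_res_basicOpen (X := X.toLocallyRingedSpace.toRingedSpace) e
  have hmap := I.map_ideal (U := U) (V := V) hUV
  refine ⟨U, hxU, ρ g, ?_, le_antisymm ?_ ?_⟩
  · rw [mem_nonZeroDivisors_iff_right]
    intro t ht
    obtain ⟨t₀, u, rfl⟩ := IsLocalization.exists_mk'_eq (Submonoid.powers e) t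
    rw [mul_comm, halg, IsLocalization.mul_mk'_eq_mk'_of_mul, IsLocalization.mk'_eq_zero_iff] at ht
    obtain ⟨⟨_, n, rfl⟩, hn⟩ := ht
    have hmem : e ^ n * t₀ ∈ Kg := by
      simp only [Kg, LinearMap.mem_ker, LinearMap.toSpanSingleton_apply, smul_eq_mul]
      rw [mul_assoc, mul_comm t₀ g]; exact hn
    rw [← hT] at hmem
    have hz : ∀ r ∈ Ideal.span (T : Set Γ(X, V.1)), e * r = 0 := by
      intro r hr
      refine Submodule.span_induction (fun r hrT => ?_) (mul_zero _) ?_ ?_ hr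
      · obtain ⟨k, hk⟩ := Finset.dvd_prod_of_mem d (SetLike.mem_coe.1 hrT)
        rw [he, hk, show c₁ * (∏ r ∈ S, c r) * (d r * k) * r = c₁ * (∏ r ∈ S, c r) * k * (d r * r) by ring,
          hdr r (hTg r hrT), mul_zero]
      · intro a b _ _ ha hb; rw [mul_add, ha, hb, add_zero]
      · intro a b _ hb; rw [smul_eq_mul, mul_left_comm, hb, mul_zero]
    rw [IsLocalization.mk'_eq_zero_iff]
    exact ⟨⟨e ^ (n + 1), n + 1, rfl⟩, show e ^ (n + 1) * t₀ = 0 by rw [pow_succ', mul_assoc]; exact hz _ hmem⟩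
  · rw [← hmap, Ideal.map_le_iff_le_comap, ← hS, Ideal.span_le]
    intro r hrS
    obtain ⟨k, hk⟩ := Finset.dvd_prod_of_mem c (SetLike.mem_coe.1 hrS)
    have h1 : e * r ∈ Ideal.span {g} := by
      rw [he, hk, show c₁ * (c r * k) * (∏ r ∈ T, d r) * r = c₁ * k * (∏ r ∈ T, d r) * (c r * r) by ring]
      exact Ideal.mul_mem_left _ _ (hcr r (hS ▸ Ideal.subset_span hrS))
    have h2 := Ideal.mem_map_of_mem ρ h1
    rw [Ideal.map_span, Set.image_singleton, map_mul] at h2
    exact (Ideal.unit_mul_mem_iff_mem _ heu).mp h2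
  · rw [Ideal.span_singleton_le_iff_mem, ← hmap]
    have h1 : e * g ∈ I.ideal V := by
      rw [he, show c₁ * (∏ r ∈ S, c r) * (∏ r ∈ T, d r) * g = (∏ r ∈ S, c r) * (∏ r ∈ T, d r) * (c₁ * g) by ring]
      exact Ideal.mul_mem_left _ _ hgI
    have h2 := Ideal.mem_map_of_mem ρ h1
    rw [map_mul] at h2
    exact (Ideal.unit_mul_mem_iff_mem _ heu).mp h2

end GrothLib.BlowUp
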