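import Groth.Agent.Lib.BlowUp.Rees
import Mathlib.AlgebraicGeometry.RelativeGluing

/-!
# Existence of blow-ups
-/

universe u

open CategoryTheory Limits AlgebraicGeometry

namespace GrothLib.BlowUp

variable {X X' Y : Scheme.{u}}

lemma eq_idealSheaf {A : Type u} [CommRing A] (𝓘 : (Spec (CommRingCat.of A)).IdealSheafData) :
    𝓘 = idealSheaf ((𝓘.ideal ⟨⊤, isAffineOpen_top _⟩).map
      (Scheme.ΓSpecIso (CommRingCat.of A)).hom.hom) := by
  refine Scheme.IdealSheafData.ext_of_isAffine ?_
  rw [ideal_idealSheaf_top, Ideal.map_map, ← CommRingCat.hom_comp, Iso.hom_inv_id]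
  exact (Ideal.map_id _).symm

/-- Blow-ups of an ideal are unique up to isomorphism over the base. -/
lemma exists_iso_of_isBlowUp {I : X.IdealSheafData} {b : X' ⟶ X} {b' : Y ⟶ X}
    (hb : _root_.BlowUp.IsBlowUp b I) (hb' : _root_.BlowUp.IsBlowUp b' I) :
    ∃ e : X' ≅ Y, e.hom ≫ b' = b := by
  obtain ⟨h, hh, -⟩ := hb'.2 X' b hb.1
  obtain ⟨k, hk, -⟩ := hb.2 _ _ hb'.1
  exact ⟨⟨h, k, hom_ext hb (by rw [Category.assoc, hk, hh, Category.id_comp])
      (by rw [Category.assoc, hk, hh]; exact hb.1),
    hom_ext hb' (by rw [Category.assoc, hh, hk, Category.id_comp])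
      (by rw [Category.assoc, hh, hk]; exact hb'.1)⟩, hh⟩

/-- Blow-ups of affine schemes exist. -/
lemma exists_isBlowUp_of_isAffine (X : Scheme.{u}) [IsAffine X] (I : X.IdealSheafData) :
    ∃ (X' : Scheme.{u}) (b : X' ⟶ X), _root_.BlowUp.IsBlowUp b I := by
  let A : Type u := Γ(X, ⊤)
  let I₀ : (Spec (CommRingCat.of A)).IdealSheafData := I.comap X.isoSpec.inv
  obtain ⟨J, hJ⟩ : ∃ J : Ideal A, I₀ = idealSheaf J := ⟨_, eq_idealSheaf I₀⟩
  have hb := isBlowUp_flat_baseChange X.isoSpec.hom (hJ ▸ isBlowUp_proj J :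
    _root_.BlowUp.IsBlowUp (Proj (Rees.deg (reesAlgebra J)) ↘ Spec (CommRingCat.of A)) I₀)
  rw [← Scheme.IdealSheafData.comap_comp, Iso.hom_inv_id, Scheme.IdealSheafData.comap_id] at hb
  exact ⟨_, _, hb⟩

section Glue

variable (I : X.IdealSheafData)

/-- A chosen blow-up over each affine open. -/
noncomputable def localBlowUp (U : X.affineOpens) : Scheme.{u} :=
  haveI : IsAffine U.1.toScheme := U.2
  (exists_isBlowUp_of_isAffine U.1.toScheme (I.comap U.1.ι)).choose

/-- The structure map of the chosen blow-up over an affine open. -/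
noncomputable def localHom (U : X.affineOpens) : localBlowUp I U ⟶ U.1.toScheme :=
  haveI : IsAffine U.1.toScheme := U.2
  (exists_isBlowUp_of_isAffine U.1.toScheme (I.comap U.1.ι)).choose_spec.choose

lemma isBlowUp_localHom (U : X.affineOpens) :
    _root_.BlowUp.IsBlowUp (localHom I U) (I.comap U.1.ι) :=
  haveI : IsAffine U.1.toScheme := U.2
  (exists_isBlowUp_of_isAffine U.1.toScheme (I.comap U.1.ι)).choose_spec.choose_spec

lemma exists_localMap {i j : X.affineOpens} (t : i.1.toScheme ⟶ j.1.toScheme)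
    (ht : t ≫ j.1.ι = i.1.ι) :
    ∃! m : localBlowUp I i ⟶ localBlowUp I j, m ≫ localHom I j = localHom I i ≫ t := by
  refine (isBlowUp_localHom I j).2 _ _ ?_
  rw [← Scheme.IdealSheafData.comap_comp, Category.assoc, ht, Scheme.IdealSheafData.comap_comp]
  exact (isBlowUp_localHom I i).1

lemma isPullback_localMap {i j : X.affineOpens} (t : i.1.toScheme ⟶ j.1.toScheme)
    [IsOpenImmersion t] (ht : t ≫ j.1.ι = i.1.ι) {m : localBlowUp I i ⟶ localBlowUp I j}
    (hm : m ≫ localHom I j = localHom I i ≫ t) :
    IsPullback m (localHom I i) (localHom I j) t := by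
  have hpb := isBlowUp_flat_baseChange t (isBlowUp_localHom I j)
  rw [← Scheme.IdealSheafData.comap_comp, ht] at hpb
  obtain ⟨e, he⟩ := exists_iso_of_isBlowUp (isBlowUp_localHom I i) hpb
  have hm' : m = e.hom ≫ pullback.snd t (localHom I j) := by
    refine (exists_localMap I t ht).unique hm ?_
    rw [Category.assoc, ← pullback.condition, reassoc_of% he]
  refine IsPullback.flip (.of_iso_pullback ⟨hm.symm⟩ e ?_ ?_)
  · exact he
  · exact hm'.symm

/-- The gluing datum of the local blow-ups. -/
noncomputable def gluingData :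
    Scheme.Cover.RelativeGluingData X.directedAffineCover where
  functor :=
    { obj := fun U => localBlowUp I U
      map := fun {i j} hij => (exists_localMap I (X.directedAffineCover.trans hij)
        (X.directedAffineCover.trans_map hij)).exists.choose
      map_id := fun i => by
        refine (exists_localMap I _ (X.directedAffineCover.trans_map (𝟙 i))).unique
          (exists_localMap I (X.directedAffineCover.trans (𝟙 i))
            (X.directedAffineCover.trans_map _)).exists.choose_spec ?_
        rw [Scheme.Cover.trans_id, Category.id_comp]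
        exact (Category.comp_id _).symm
      map_comp := fun {i j k} f g => by
        refine (exists_localMap I _ (X.directedAffineCover.trans_map (f ≫ g))).unique
          (exists_localMap I (X.directedAffineCover.trans (f ≫ g))
            (X.directedAffineCover.trans_map _)).exists.choose_spec ?_
        rw [Category.assoc, (exists_localMap I (X.directedAffineCover.trans g)
            (X.directedAffineCover.trans_map _)).exists.choose_spec,
          reassoc_of% (exists_localMap I (X.directedAffineCover.trans f)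
            (X.directedAffineCover.trans_map _)).exists.choose_spec, Scheme.Cover.trans_comp]
        rfl }
  natTrans :=
    { app := fun U => localHom I U
      naturality := fun i j f => (exists_localMap I (X.directedAffineCover.trans f)
        (X.directedAffineCover.trans_map _)).exists.choose_spec }
  equifibered i j f :=
    have : IsOpenImmersion (X.directedAffineCover.trans f) := X.directedAffineCover.property_trans f
    @isPullback_localMap X I i j (X.directedAffineCover.trans f) this (X.directedAffineCover.trans_map f) _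
      (exists_localMap I (X.directedAffineCover.trans f)
        (X.directedAffineCover.trans_map _)).exists.choose_spec

/-- The blow-up of a scheme in an ideal sheaf. -/
noncomputable def blowUp : Scheme.{u} := (gluingData I).glued

/-- The structure map of the blow-up. -/
noncomputable def blowUpHom : blowUp I ⟶ X := (gluingData I).toBase

/-- The chart over an affine open. -/
noncomputable def chartι (U : X.affineOpens) : localBlowUp I U ⟶ blowUp I :=
  (gluingData I).cover.f U

instance (U : X.affineOpens) : IsOpenImmersion (chartι I U) :=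
  (gluingData I).cover.map_prop U

lemma chartι_blowUpHom (U : X.affineOpens) :
    chartι I U ≫ blowUpHom I = localHom I U ≫ U.1.ι :=
  (gluingData I).ι_toBase U

lemma range_chartι (U : X.affineOpens) :
    Set.range (chartι I U) = blowUpHom I ⁻¹' (U.1 : Set X) := by
  rw [← U.1.range_ι]
  exact ((gluingData I).preimage_toBase_eq_range_ι U).symm

lemma hom_unique_blowUp {T : Scheme.{u}} (g : T ⟶ X)
    (hg : _root_.BlowUp.IsEffCartierIdeal (I.comap g))
    {h h' : T ⟶ blowUp I} (hh : h ≫ blowUpHom I = g) (hh' : h' ≫ blowUpHom I = g) : h = h' := by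
  choose U hU using fun t : T => (exists_affine_mem_le (W := (⊤ : X.Opens)) (x := g t) trivial)
  refine Scheme.Cover.hom_ext (T.openCoverOfIsOpenCover (fun t => g ⁻¹ᵁ (U t).1)
    (top_unique fun t _ => TopologicalSpace.Opens.mem_iSup.mpr ⟨t, (hU t).1⟩)) _ _ fun t => ?_
  show (g ⁻¹ᵁ (U t).1).ι ≫ h = (g ⁻¹ᵁ (U t).1).ι ≫ h'
  have hr : ∀ k : T ⟶ blowUp I, k ≫ blowUpHom I = g →
      Set.range ((g ⁻¹ᵁ (U t).1).ι ≫ k) ⊆ Set.range (chartι I (U t)) := by
    intro k hk
    rw [range_chartι]
    rintro _ ⟨y, rfl⟩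
    show blowUpHom I (k _) ∈ (U t).1
    rw [← Scheme.Hom.comp_apply, hk]
    exact y.2
  rw [← IsOpenImmersion.lift_fac (chartι I (U t)) _ (hr h hh),
    ← IsOpenImmersion.lift_fac (chartι I (U t)) _ (hr h' hh')]
  congr 1
  have key : ∀ (k : T ⟶ blowUp I) (hk : k ≫ blowUpHom I = g),
      IsOpenImmersion.lift (chartι I (U t)) _ (hr k hk) ≫ localHom I (U t) = g ∣_ (U t).1 := by
    intro k hk
    rw [← cancel_mono (U t).1.ι, Category.assoc, ← chartι_blowUpHom, IsOpenImmersion.lift_fac_assoc,
      Category.assoc, hk, morphismRestrict_ι]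
  refine hom_ext (isBlowUp_localHom I (U t)) ((key h hh).trans (key h' hh').symm) ?_
  rw [key h hh, ← Scheme.IdealSheafData.comap_comp, morphismRestrict_ι,
    Scheme.IdealSheafData.comap_comp]
  exact isEffCartierIdeal_comap_of_flat _ hg

theorem isBlowUp_blowUpHom : _root_.BlowUp.IsBlowUp (blowUpHom I) I := by
  refine ⟨isEffCartierIdeal_of_forall_exists_open fun p => ?_, fun T g hg => ?_⟩
  · obtain ⟨U, hU, -⟩ := exists_affine_mem_le (W := (⊤ : X.Opens)) (x := blowUpHom I p) trivial
    have hp : p ∈ (chartι I U).opensRange := (range_chartι I U).ge hU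
    refine ⟨(chartι I U).opensRange, hp, ?_⟩
    rw [← Scheme.Hom.isoOpensRange_inv_comp (chartι I U), Scheme.IdealSheafData.comap_comp,
      ← Scheme.IdealSheafData.comap_comp _ (chartι I U), chartι_blowUpHom,
      Scheme.IdealSheafData.comap_comp]
    exact isEffCartierIdeal_comap_of_flat _ (isBlowUp_localHom I U).1
  · choose U hU using fun t : T => (exists_affine_mem_le (W := (⊤ : X.Opens)) (x := g t) trivial)
    let 𝒰 : T.OpenCover := T.openCoverOfIsOpenCover (fun t => g ⁻¹ᵁ (U t).1)
      (top_unique fun t _ => TopologicalSpace.Opens.mem_iSup.mpr ⟨t, (hU t).1⟩)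
    have hloc : ∀ t : T, ∃ k : (g ⁻¹ᵁ (U t).1).toScheme ⟶ localBlowUp I (U t),
        k ≫ localHom I (U t) = g ∣_ (U t).1 := fun t => by
      refine ((isBlowUp_localHom I (U t)).2 _ _ ?_).exists
      rw [← Scheme.IdealSheafData.comap_comp, morphismRestrict_ι, Scheme.IdealSheafData.comap_comp]
      exact isEffCartierIdeal_comap_of_flat _ hg
    choose k hk using hloc
    let f : ∀ t : T, (g ⁻¹ᵁ (U t).1).toScheme ⟶ blowUp I := fun t => k t ≫ chartι I (U t)
    have hf : ∀ t, f t ≫ blowUpHom I = (g ⁻¹ᵁ (U t).1).ι ≫ g := fun t => by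
      rw [Category.assoc, chartι_blowUpHom, reassoc_of% hk t, morphismRestrict_ι]
    have compat : ∀ s t : T, pullback.fst (g ⁻¹ᵁ (U s).1).ι (g ⁻¹ᵁ (U t).1).ι ≫ f s =
        pullback.snd (g ⁻¹ᵁ (U s).1).ι (g ⁻¹ᵁ (U t).1).ι ≫ f t := by
      intro s t
      refine hom_unique_blowUp I
        ((pullback.fst (g ⁻¹ᵁ (U s).1).ι (g ⁻¹ᵁ (U t).1).ι ≫ (g ⁻¹ᵁ (U s).1).ι) ≫ g) ?_ ?_ ?_
      · rw [Scheme.IdealSheafData.comap_comp]
        exact isEffCartierIdeal_comap_of_flat _ hg
      · simp only [Category.assoc, hf]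
      · simp only [Category.assoc, hf, pullback.condition_assoc]
    refine ⟨𝒰.glueMorphisms f compat, ?_, fun m hm => hom_unique_blowUp I g hg hm ?_⟩
    · refine 𝒰.hom_ext _ _ fun t => ?_
      rw [Scheme.Cover.ι_glueMorphisms_assoc]
      exact hf t
    · refine 𝒰.hom_ext _ _ fun t => ?_
      rw [Scheme.Cover.ι_glueMorphisms_assoc]
      exact hf t

end Glue

theorem exists_isBlowUp (X : Scheme.{u}) (I : X.IdealSheafData) :
    ∃ (X' : Scheme.{u}) (b : X' ⟶ X), _root_.BlowUp.IsBlowUp b I :=
  ⟨_, _, isBlowUp_blowUpHom I⟩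

end GrothLib.BlowUp
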