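import Groth.Agent.Lib.BlowUp.UFD
import Groth.Agent.Lib.RedSub.Basic

/-!
# The complement of an affine open has codimension one
-/

universe u

open CategoryTheory AlgebraicGeometry

namespace GrothLib.BlowUp

/-- The basic open `D(a)` as an open of `Spec A`. -/
def specD {A : CommRingCat.{u}} (a : A) : (Spec A).Opens := PrimeSpectrum.basicOpen a

/-- The punctured spectrum of a factorial Noetherian local ring of dimension at least two is not
affine. -/
theorem not_isAffineOpen_punctured {A : CommRingCat.{u}} [IsDomain A] [UniqueFactorizationMonoid A]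
    [IsNoetherianRing A] [IsLocalRing A] (hdim : 1 < ringKrullDim A)
    (W : (Spec A).Opens)
    (hW : ∀ p : Spec A, p ∈ W ↔ p ≠ IsLocalRing.closedPoint A) :
    ¬ IsAffineOpen W := by
  intro hWa
  set m := IsLocalRing.maximalIdeal A
  have hbas : ∀ a ∈ m, specD a ≤ W := fun a ha p hp => (hW p).mpr fun h => hp (h ▸ ha)
  have hm : 1 < m.height := by
    have := IsLocalRing.maximalIdeal_height_eq_ringKrullDim (R := A)
    rw [← this] at hdim
    exact_mod_cast hdim
  obtain ⟨π, hπm, hπ⟩ := Ideal.IsPrime.exists_mem_prime_of_ne_bot (I := m) inferInstance fun h => by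
    rw [h, Ideal.height_bot] at hm
    exact absurd hm (by simp)
  obtain ⟨b, hbm, hbπ⟩ : ∃ b ∈ m, b ∉ Ideal.span {π} := by
    by_contra h
    push Not at h
    have : m = Ideal.span {π} := le_antisymm h ((Ideal.span_singleton_le_iff_mem m).mpr hπm)
    have : m.IsPrincipal := ⟨π, this⟩
    have h1 := Ideal.height_le_one_of_isPrincipal_of_mem_minimalPrimes m m
    refine not_le.mpr hm (h1 ?_)
    rw [Ideal.minimalPrimes_eq_subsingleton_self]
    rfl
  have hloc : ∀ a : A, IsLocalization.Away a Γ(Spec A, specD a) := fun a =>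
    inferInstanceAs (IsLocalization.Away a Γ(Spec A, PrimeSpectrum.basicOpen a))
  set R : ∀ U : (Spec A).Opens, A →+* Γ(Spec A, U) := fun U =>
    ((Scheme.ΓSpecIso A).inv ≫ (Spec A).presheaf.map (homOfLE (le_top : U ≤ ⊤)).op).hom
  have halg : ∀ (a : A), R (specD a) = algebraMap A Γ(Spec A, specD a) :=
    fun a => rfl
  have hres : ∀ (U V : (Spec A).Opens) (h : V ≤ U) (r : A), (Spec A).presheaf.map (homOfLE h).op (R U r) = R V r := by
    intro U V h r
    show (((Scheme.ΓSpecIso A).inv ≫ (Spec A).presheaf.map (homOfLE le_top).op) ≫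
      (Spec A).presheaf.map (homOfLE h).op).hom r = _
    rw [Category.assoc, ← Functor.map_comp]
    rfl
  have hinjD : ∀ a r : A, a ≠ 0 → R (specD a) r = 0 → r = 0 := by
    intro a r ha h
    obtain ⟨⟨_, n, rfl⟩, e⟩ := (IsLocalization.map_eq_zero_iff (Submonoid.powers a) _ r).mp h
    exact (mul_eq_zero.mp e).resolve_left (pow_ne_zero n ha)
  have hsurj : Function.Surjective (R W) := by
    intro s
    let res : ∀ a ∈ m, Γ(Spec A, specD a) := fun a ha =>
      (Spec A).presheaf.map (homOfLE (hbas a ha)).op s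
    obtain ⟨⟨x, _, n, rfl⟩, ex⟩ := IsLocalization.surj (Submonoid.powers π) (res π hπm)
    obtain ⟨⟨y, _, k, rfl⟩, ey⟩ := IsLocalization.surj (Submonoid.powers b) (res b hbm)
    replace ex : (Spec A).presheaf.map (homOfLE (hbas π hπm)).op s * R _ (π ^ n) = R _ x := ex
    replace ey : (Spec A).presheaf.map (homOfLE (hbas b hbm)).op s * R _ (b ^ k) = R _ y := ey
    have hlea : specD (π * b) ≤ specD π :=
      PrimeSpectrum.basicOpen_mul_le_left π b
    have hleb : specD (π * b) ≤ specD b :=
      PrimeSpectrum.basicOpen_mul_le_right π b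
    have hb0 : b ≠ 0 := fun h => hbπ (h ▸ zero_mem _)
    set D := (Spec A).presheaf.map (homOfLE ((hlea.trans (hbas π hπm)))).op s
    have e1 : D * R _ (π ^ n) = R _ x := by
      have := congrArg ((Spec A).presheaf.map (homOfLE hlea).op) ex
      rw [map_mul, hres, hres, ← CategoryTheory.comp_apply, ← Functor.map_comp] at this
      exact this
    have e2 : D * R _ (b ^ k) = R _ y := by
      have := congrArg ((Spec A).presheaf.map (homOfLE hleb).op) ey
      rw [map_mul, hres, hres, ← CategoryTheory.comp_apply, ← Functor.map_comp] at this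
      exact this
    have hxy : b ^ k * x = π ^ n * y := by
      refine sub_eq_zero.mp (hinjD (π * b) _ (mul_ne_zero hπ.ne_zero hb0) ?_)
      rw [map_sub, map_mul, map_mul, ← e1, ← e2]
      ring
    obtain ⟨x', rfl⟩ : π ^ n ∣ x := hπ.pow_dvd_of_dvd_mul_left n
      (fun h => hbπ (Ideal.mem_span_singleton.mpr (hπ.dvd_of_dvd_pow h))) ⟨y, hxy⟩
    refine ⟨x', ?_⟩
    refine (sub_eq_zero.mp ?_).symm
    set t := s - R W x'
    have ht0 : (Spec A).presheaf.map (homOfLE (hbas π hπm)).op t = 0 := by
      have hu : IsUnit (R (specD π) (π ^ n)) :=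
        IsLocalization.map_units _ (⟨π ^ n, n, rfl⟩ : Submonoid.powers π)
      refine hu.mul_left_eq_zero.mp ?_
      simp only [t]
      rw [map_sub, hres, sub_mul]
      refine sub_eq_zero.mpr ?_
      rw [← map_mul, mul_comm x' (π ^ n)]
      exact ex
    refine TopCat.Presheaf.section_ext (Spec A).sheaf W t 0 fun p hp => ?_
    obtain ⟨a, ham, hap⟩ : ∃ a ∈ m, a ∉ p.asIdeal := by
      by_contra h
      push Not at h
      exact (hW p).mp hp (PrimeSpectrum.ext
        (le_antisymm (IsLocalRing.le_maximalIdeal p.isPrime.ne_top) h))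
    have ha0 : a ≠ 0 := fun h => hap (h ▸ zero_mem _)
    have h0 : (Spec A).presheaf.map (homOfLE (hbas a ham)).op t = 0 := by
      obtain ⟨⟨w, _, l, rfl⟩, ew⟩ := IsLocalization.surj (Submonoid.powers a)
        ((Spec A).presheaf.map (homOfLE (hbas a ham)).op t : Γ(Spec A, specD a))
      replace ew : (Spec A).presheaf.map (homOfLE (hbas a ham)).op t * R _ (a ^ l) = R _ w := ew
      have hlea' : specD (a * π) ≤ specD a :=
        PrimeSpectrum.basicOpen_mul_le_left a π
      have hleπ : specD (a * π) ≤ specD π :=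
        PrimeSpectrum.basicOpen_mul_le_right a π
      have hw : w = 0 := by
        refine hinjD (a * π) w (mul_ne_zero ha0 hπ.ne_zero) ?_
        rw [← hres _ _ hlea' w, ← ew, map_mul, ← CategoryTheory.comp_apply, ← Functor.map_comp]
        have := congrArg ((Spec A).presheaf.map (homOfLE hleπ).op) ht0
        rw [map_zero, ← CategoryTheory.comp_apply, ← Functor.map_comp] at this
        erw [this, zero_mul]
      rw [hw, map_zero] at ew
      exact (IsLocalization.map_units _ (⟨a ^ l, l, rfl⟩ : Submonoid.powers a)).mul_left_eq_zero.mp ew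
    show (Spec A).presheaf.germ W p hp t = (Spec A).presheaf.germ W p hp 0
    rw [map_zero, ← TopCat.Presheaf.germ_res_apply (Spec A).presheaf (homOfLE (hbas a ham)) p hap t, h0, map_zero]
  have hinj : Function.Injective (R W) := by
    rw [injective_iff_map_eq_zero]
    intro r hr
    refine hinjD π r hπ.ne_zero ?_
    rw [← hres W _ (hbas π hπm), hr, map_zero]
  have hiso : IsIso ((Scheme.ΓSpecIso A).inv ≫ (Spec A).presheaf.map (homOfLE (le_top : W ≤ ⊤)).op) :=
    (ConcreteCategory.isIso_iff_bijective _).mpr ⟨hinj, hsurj⟩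
  have hiso' : IsIso ((Spec A).presheaf.map (homOfLE (le_top : W ≤ ⊤)).op) := IsIso.of_isIso_comp_left (Scheme.ΓSpecIso A).inv _
  have e := (isAffineOpen_top (Spec A)).map_fromSpec hWa (homOfLE (le_top : W ≤ ⊤)).op
  have : IsLocalRing.closedPoint A ∈ Set.range hWa.fromSpec := by
    rw [← e, Scheme.Hom.comp_base, TopCat.coe_comp, Set.range_comp,
      Set.range_eq_univ.mpr (Spec.map ((Spec A).presheaf.map (homOfLE (le_top : W ≤ ⊤)).op)).surjective,
      Set.image_univ, (isAffineOpen_top (Spec A)).range_fromSpec]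
    trivial
  rw [hWa.range_fromSpec] at this
  exact (hW _).mp this rfl

variable {X : Scheme.{u}}

/-- Maximal points of the complement of a dense affine open have codimension one if the local ring is
factorial (`X` Noetherian, with affine intersections of affine opens). -/
theorem ringKrullDim_eq_one_of_maximal_compl_affine [IsNoetherian X]
    (hΔ : ∀ V W : X.Opens, IsAffineOpen V → IsAffineOpen W → IsAffineOpen (V ⊓ W))
    {U : X.Opens} (hU : IsAffineOpen U) (hdense : Dense (U : Set X)) {x : X} (hxU : x ∉ U)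
    (hmax : ∀ y : X, y ⤳ x → y ∉ U → y = x)
    [IsDomain (X.presheaf.stalk x)] [UniqueFactorizationMonoid (X.presheaf.stalk x)] :
    ringKrullDim (X.presheaf.stalk x) = 1 := by
  obtain ⟨V, hxV, -⟩ := exists_affine_mem_le (W := (⊤ : X.Opens)) (x := x) trivial
  have hnoe : IsNoetherianRing Γ(X, V.1) := IsLocallyNoetherian.component_noetherian V
  obtain ⟨P, hP⟩ := V.2.range_fromSpec.ge hxV
  have hne0 : ringKrullDim (X.presheaf.stalk x) ≠ 0 := by
    intro h0
    rw [ringKrullDim_stalk_eq_height V.2 hxV] at h0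
    have hmin : WeakAss.primeAt x hxV ∈ minimalPrimes Γ(X, V.1) :=
      Ideal.height_eq_zero_iff.mp (by exact_mod_cast h0)
    have hfin : (minimalPrimes Γ(X, V.1)).Finite := minimalPrimes.finite_of_isNoetherianRing Γ(X, V.1)
    have hc : ∀ q ∈ hfin.toFinset.erase (WeakAss.primeAt x hxV), ∃ c ∈ q, c ∉ WeakAss.primeAt x hxV := by
      intro q hq
      obtain ⟨hne, hq⟩ := Finset.mem_erase.mp hq
      rw [Set.Finite.mem_toFinset] at hq
      by_contra h
      push Not at h
      exact hne (le_antisymm h (hmin.2 hq.1 h))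
    choose! c hc hcx using hc
    set c₀ := ∏ q ∈ hfin.toFinset.erase (WeakAss.primeAt x hxV), c q
    have hxc : x ∈ X.basicOpen c₀ := WeakAss.notMem_primeAt_iff.mp (show c₀ ∉ WeakAss.primeAt x hxV by
      rw [Ideal.IsPrime.prod_mem_iff]
      rintro ⟨q, hq, hcq⟩
      exact hcx q hq hcq)
    obtain ⟨y, hyc, hyU⟩ := hdense.inter_open_nonempty _ (X.basicOpen c₀).2 ⟨x, hxc⟩
    obtain ⟨Q, hQ⟩ := V.2.range_fromSpec.ge (X.basicOpen_le c₀ hyc)
    subst hQ
    obtain ⟨q, hq, hqQ⟩ := Ideal.exists_minimalPrimes_le (show (⊥ : Ideal Γ(X, V.1)) ≤ Q.asIdeal from bot_le)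
    have hqP : q = WeakAss.primeAt x hxV := by
      by_contra hne
      have hqS : q ∈ hfin.toFinset.erase (WeakAss.primeAt x hxV) :=
        Finset.mem_erase.mpr ⟨hne, hfin.mem_toFinset.mpr hq⟩
      refine (WeakAss.notMem_primeAt_iff (hx := X.basicOpen_le c₀ hyc)).mpr hyc ?_
      rw [WeakAss.primeAt_fromSpec V.2 Q (X.basicOpen_le c₀ hyc)]
      exact Q.asIdeal.mem_of_dvd (Finset.dvd_prod_of_mem c hqS) (hqQ (hc q hqS))
    refine hxU (Specializes.mem_open ?_ U.2 hyU)
    rw [← hP]
    refine ((PrimeSpectrum.le_iff_specializes P Q).mp ?_).map V.2.fromSpec.continuous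
    subst hP
    rw [WeakAss.primeAt_fromSpec V.2 P hxV] at hqP
    exact hqP.ge.trans hqQ
  by_contra hne1
  have hA : IsNoetherianRing (X.presheaf.stalk x) := inferInstance
  have hdim : 1 < ringKrullDim (X.presheaf.stalk x) := by
    rw [ringKrullDim_stalk_eq_height V.2 hxV] at hne0 hne1 ⊢
    set h := (WeakAss.primeAt x hxV).height
    have : h ≠ 0 := fun e => hne0 (by exact_mod_cast e)
    have : h ≠ 1 := fun e => hne1 (by exact_mod_cast e)
    have : 1 < h := lt_of_le_of_ne (Order.one_le_iff_pos.mpr (pos_iff_ne_zero.mpr ‹h ≠ 0›)) (Ne.symm this)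
    exact_mod_cast this
  set φ := X.fromSpecStalk x
  refine not_isAffineOpen_punctured (A := X.presheaf.stalk x) hdim (φ ⁻¹ᵁ U) (fun p => ?_) ?_
  · have hcl : φ (IsLocalRing.closedPoint (X.presheaf.stalk x)) = x := Scheme.fromSpecStalk_closedPoint
    constructor
    · intro hp he
      subst he
      exact hxU (hcl ▸ hp)
    · intro hne
      by_contra hpU
      refine hne (φ.isEmbedding.injective ?_)
      have hspec : φ p ⤳ x := by
        have : φ p ∈ Set.range (X.fromSpecStalk x) := ⟨p, rfl⟩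
        rwa [Scheme.range_fromSpecStalk] at this
      exact (hmax _ hspec hpU).trans hcl.symm
  · let ψ : Spec (X.presheaf.stalk x) ⟶ Spec Γ(X, V.1) := Spec.map (X.presheaf.germ V.1 x hxV)
    have e : ψ ≫ V.2.fromSpec = φ := V.2.fromSpecStalk_eq_fromSpecStalk hxV
    rw [← e]
    have h1 : IsAffineOpen (V.2.fromSpec ⁻¹ᵁ U) := by
      refine (Scheme.Hom.isAffineOpen_iff_of_isOpenImmersion V.2.fromSpec).mp ?_
      rw [Scheme.Hom.image_preimage_eq_opensRange_inf, V.2.opensRange_fromSpec]
      exact hΔ _ _ V.2 hU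
    exact h1.preimage ψ

end GrothLib.BlowUp
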