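import Groth.Prelude.Def_BlowUp2
import Mathlib.RingTheory.Localization.Away.Basic

/-!
# The affine blow-up algebra `A[I/a]`: elementary algebra
-/

universe u

namespace GrothLib.BlowUp

variable {A : Type u} [CommRing A] {I : Ideal A}

/-- The element `x / a` of `A[I/a]`, for `x ∈ I`. -/
noncomputable def frac (a : A) (x : I) : ↥(_root_.BlowUp.affineAlgebra A I a) :=
  ⟨IsLocalization.mk' (Localization.Away a) (x : A) ⟨a, Submonoid.mem_powers a⟩,
    Algebra.subset_adjoin ⟨x, x.2, rfl⟩⟩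

lemma algebraMap_mul_frac (a : A) (x : I) :
    algebraMap A ↥(_root_.BlowUp.affineAlgebra A I a) a * frac a x = algebraMap A _ (x : A) :=
  Subtype.ext (IsLocalization.mk'_spec' (Localization.Away a) (x : A) ⟨a, Submonoid.mem_powers a⟩)

lemma algebraMap_mem_nonZeroDivisors (a : A) :
    algebraMap A ↥(_root_.BlowUp.affineAlgebra A I a) a ∈
      nonZeroDivisors ↥(_root_.BlowUp.affineAlgebra A I a) := by
  rw [mem_nonZeroDivisors_iff_right]
  intro z hz
  apply Subtype.ext
  have h2 : (z : Localization.Away a) * algebraMap A _ a = 0 := congrArg Subtype.val hz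
  exact (IsLocalization.Away.algebraMap_isUnit (S := Localization.Away a) a).mul_left_eq_zero.mp h2

lemma map_eq_span (a : A) (ha : a ∈ I) :
    I.map (algebraMap A ↥(_root_.BlowUp.affineAlgebra A I a)) =
      Ideal.span {algebraMap A _ a} := by
  refine le_antisymm (Ideal.map_le_iff_le_comap.mpr fun x hx => ?_)
    ((Ideal.span_singleton_le_iff_mem _).mpr (Ideal.mem_map_of_mem _ ha))
  exact Ideal.mem_span_singleton.mpr ⟨frac a ⟨x, hx⟩, (algebraMap_mul_frac a ⟨x, hx⟩).symm⟩

/-- `x / aⁿ ∈ A[I/a]` for `x ∈ Iⁿ`. -/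
lemma mk'_mem_of_mem_pow (a : A) (n : ℕ) {x : A} (hx : x ∈ I ^ n) :
    IsLocalization.mk' (Localization.Away a) x
      (⟨a ^ n, Submonoid.pow_mem _ (Submonoid.mem_powers a) n⟩ : Submonoid.powers a) ∈
      _root_.BlowUp.affineAlgebra A I a := by
  induction n generalizing x with
  | zero =>
    rw [show (⟨a ^ 0, Submonoid.pow_mem _ (Submonoid.mem_powers a) 0⟩ : Submonoid.powers a) = 1
      from Subtype.ext (pow_zero a), IsLocalization.mk'_one]
    exact Subalgebra.algebraMap_mem _ x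
  | succ n ih =>
    rw [pow_succ] at hx
    refine Submodule.mul_induction_on hx ?_ ?_
    · intro y hy z hz
      rw [show (⟨a ^ (n + 1), Submonoid.pow_mem _ (Submonoid.mem_powers a) _⟩ : Submonoid.powers a) =
        ⟨a ^ n, Submonoid.pow_mem _ (Submonoid.mem_powers a) n⟩ * ⟨a, Submonoid.mem_powers a⟩
        from Subtype.ext (pow_succ a n), IsLocalization.mk'_mul]
      exact Subalgebra.mul_mem _ (ih hy) (Algebra.subset_adjoin ⟨z, hz, rfl⟩)
    · intro y z hy hz
      rw [IsLocalization.mk'_eq_mul_mk'_one, map_add, add_mul, ← IsLocalization.mk'_eq_mul_mk'_one,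
        ← IsLocalization.mk'_eq_mul_mk'_one]
      exact Subalgebra.add_mem _ hy hz

variable {B : Type u} [CommRing B]

/-- Universal property of `A[I/a]`: uniqueness. -/
lemma hom_ext_affineAlgebra (a : A) (φ : A →+* B) (ha : φ a ∈ nonZeroDivisors B)
    {ψ₁ ψ₂ : ↥(_root_.BlowUp.affineAlgebra A I a) →+* B}
    (h₁ : ψ₁.comp (algebraMap A _) = φ) (h₂ : ψ₂.comp (algebraMap A _) = φ) : ψ₁ = ψ₂ := by
  apply RingHom.ext
  rintro ⟨z, hz⟩
  induction hz using Algebra.adjoin_induction with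
  | mem z hz =>
    obtain ⟨x, hx, rfl⟩ := hz
    have e : ∀ ψ : ↥(_root_.BlowUp.affineAlgebra A I a) →+* B, ψ.comp (algebraMap A _) = φ →
        φ a * ψ (frac a ⟨x, hx⟩) = φ x := by
      intro ψ hψ
      rw [← hψ, RingHom.comp_apply, ← map_mul, algebraMap_mul_frac]
      rfl
    exact (mul_cancel_left_mem_nonZeroDivisors ha).mp ((e _ h₁).trans (e _ h₂).symm)
  | algebraMap r => exact (RingHom.congr_fun h₁ r).trans (RingHom.congr_fun h₂ r).symm
  | add x y hx hy e1 e2 =>
    show ψ₁ (⟨x, hx⟩ + ⟨y, hy⟩) = ψ₂ (⟨x, hx⟩ + ⟨y, hy⟩)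
    rw [map_add, map_add, e1, e2]
  | mul x y hx hy e1 e2 =>
    show ψ₁ (⟨x, hx⟩ * ⟨y, hy⟩) = ψ₂ (⟨x, hx⟩ * ⟨y, hy⟩)
    rw [map_mul, map_mul, e1, e2]

/-- Universal property of `A[I/a]`: existence. -/
lemma exists_lift_affineAlgebra (a : A) (φ : A →+* B) (ha : φ a ∈ nonZeroDivisors B)
    (hle : I.map φ ≤ Ideal.span {φ a}) :
    ∃ ψ : ↥(_root_.BlowUp.affineAlgebra A I a) →+* B, ψ.comp (algebraMap A _) = φ := by
  let Bs := Localization.Away (φ a)
  have hinj : Function.Injective (algebraMap B Bs) :=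
    IsLocalization.injective (M := Submonoid.powers (φ a)) Bs (Submonoid.powers_le.mpr ha)
  let Φ : Localization.Away a →+* Bs := IsLocalization.map Bs φ
    (Submonoid.powers_le.mpr (show a ∈ (Submonoid.powers (φ a)).comap φ from Submonoid.mem_powers (φ a)))
  have hΦ : ∀ r, Φ (algebraMap A _ r) = algebraMap B Bs (φ r) := fun r => IsLocalization.map_eq _ r
  have hmem : ∀ z : ↥(_root_.BlowUp.affineAlgebra A I a),
      Φ (z : Localization.Away a) ∈ (algebraMap B Bs).range := by
    rintro ⟨z, hz⟩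
    induction hz using Algebra.adjoin_induction with
    | mem z hz =>
      obtain ⟨x, hx, rfl⟩ := hz
      obtain ⟨c, hc⟩ := Ideal.mem_span_singleton.mp (hle (Ideal.mem_map_of_mem φ hx))
      refine ⟨c, ?_⟩
      have hu : IsUnit (algebraMap B Bs (φ a)) := IsLocalization.Away.algebraMap_isUnit _
      apply hu.mul_right_cancel
      rw [← map_mul, mul_comm c, ← hc, ← hΦ, ← hΦ a, ← map_mul]
      exact congrArg Φ (IsLocalization.mk'_spec (Localization.Away a) x
        ⟨a, Submonoid.mem_powers a⟩).symm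
    | algebraMap r => exact ⟨φ r, (hΦ r).symm⟩
    | add x y _ _ e1 e2 => simpa [map_add] using add_mem e1 e2
    | mul x y _ _ e1 e2 => simpa [map_mul] using mul_mem e1 e2
  let ψ₀ : ↥(_root_.BlowUp.affineAlgebra A I a) →+* (algebraMap B Bs).range :=
    (Φ.comp (Subalgebra.val _).toRingHom).codRestrict _ hmem
  let e : B ≃+* (algebraMap B Bs).range :=
    RingEquiv.ofBijective (algebraMap B Bs).rangeRestrict
      ⟨fun x y h => hinj (congrArg Subtype.val h), (algebraMap B Bs).rangeRestrict_surjective⟩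
  refine ⟨e.symm.toRingHom.comp ψ₀, RingHom.ext fun r => ?_⟩
  apply e.injective
  simp only [RingHom.comp_apply, RingEquiv.toRingHom_eq_coe, RingHom.coe_coe,
    RingEquiv.apply_symm_apply]
  exact Subtype.ext (hΦ r)

end GrothLib.BlowUp
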