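import Groth.Agent.Lib.BlowUp.EffCartier
import Mathlib.AlgebraicGeometry.Properties

/-!
# Blow-ups via their universal property: elementary consequences
-/

universe u

open CategoryTheory Limits AlgebraicGeometry Scheme

namespace GrothLib.BlowUp

variable {X X' X'' Y : Scheme.{u}}

lemma hom_ext {I : X.IdealSheafData} {b : X' ⟶ X} (hb : _root_.BlowUp.IsBlowUp b I)
    {h h' : Y ⟶ X'} (he : h ≫ b = h' ≫ b)
    (hY : _root_.BlowUp.IsEffCartierIdeal (I.comap (h ≫ b))) : h = h' := by
  obtain ⟨k, -, hk⟩ := hb.2 Y (h ≫ b) hY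
  exact (hk h rfl).trans (hk h' he.symm).symm

lemma isEffCartierIdeal_comap_ι_compl_support (I : X.IdealSheafData) :
    _root_.BlowUp.IsEffCartierIdeal (I.comap (Scheme.Opens.ι I.support.compl)) := by
  have : (I.comap (Scheme.Opens.ι I.support.compl)).support = ⊥ := by
    rw [IdealSheafData.support_comap]
    ext1
    ext x
    simp only [TopologicalSpace.Closeds.coe_preimage, Set.mem_preimage,
      TopologicalSpace.Closeds.coe_bot, Set.mem_empty_iff_false, iff_false]
    exact x.2
  rw [IdealSheafData.support_eq_bot_iff] at this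
  rw [this]
  exact isEffCartierIdeal_top

/-- A blow-up is an isomorphism away from its centre. -/
theorem isIso_off_center {I : X.IdealSheafData} {b : X' ⟶ X} (hb : _root_.BlowUp.IsBlowUp b I) :
    IsIso (b ∣_ I.support.compl) := by
  set U : X.Opens := I.support.compl
  obtain ⟨s, hs, -⟩ := hb.2 U.toScheme U.ι (isEffCartierIdeal_comap_ι_compl_support I)
  have hrange : Set.range s ⊆ Set.range (b ⁻¹ᵁ U).ι := by
    rintro _ ⟨y, rfl⟩
    rw [Scheme.Opens.range_ι]
    show b (s y) ∈ U
    rw [← Scheme.Hom.comp_apply, hs]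
    exact y.2
  let t : U.toScheme ⟶ (b ⁻¹ᵁ U).toScheme := IsOpenImmersion.lift (b ⁻¹ᵁ U).ι s hrange
  have ht : t ≫ (b ⁻¹ᵁ U).ι = s := IsOpenImmersion.lift_fac _ _ _
  refine ⟨t, ?_, ?_⟩
  · rw [← cancel_mono (b ⁻¹ᵁ U).ι, Category.assoc, ht, Category.id_comp]
    refine hom_ext hb ?_ ?_
    · rw [Category.assoc, hs, morphismRestrict_ι]
    · rw [Category.assoc, hs, morphismRestrict_ι, IdealSheafData.comap_comp]
      exact isEffCartierIdeal_comap_of_flat _ hb.1
  · rw [← cancel_mono U.ι, Category.assoc, morphismRestrict_ι, reassoc_of% ht, hs,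
      Category.id_comp]

lemma flat_ι_comp_of_le {I : X.IdealSheafData} {b : X' ⟶ X} (hb : _root_.BlowUp.IsBlowUp b I)
    {W : X'.Opens} (hW : Disjoint (W : Set X') ((I.comap b).support : Set X')) :
    Flat (W.ι ≫ b) := by
  have := isIso_off_center hb
  have hle : W ≤ b ⁻¹ᵁ I.support.compl := fun x hx => by
    show b x ∉ I.support
    intro hbx
    refine Set.disjoint_left.mp hW hx ?_
    rw [IdealSheafData.support_comap]
    exact hbx
  have : W.ι ≫ b = X'.homOfLE hle ≫ (b ∣_ I.support.compl) ≫ Scheme.Opens.ι _ := by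
    rw [morphismRestrict_ι, ← Category.assoc, Scheme.homOfLE_ι]
  rw [this]
  infer_instance

lemma flat_appLE_of_le {I : X.IdealSheafData} {b : X' ⟶ X} (hb : _root_.BlowUp.IsBlowUp b I)
    (U : X.affineOpens) (W : X'.affineOpens) (hle : W.1 ≤ b ⁻¹ᵁ U.1)
    (hW : Disjoint (W.1 : Set X') ((I.comap b).support : Set X')) :
    (b.appLE U.1 W.1 hle).hom.Flat := by
  have := flat_ι_comp_of_le hb hW
  have hT : (⊤ : W.1.toScheme.Opens) ≤ W.1.ι ⁻¹ᵁ W.1 := by simp
  have : IsAffine W.1.toScheme := W.2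
  have hf := Scheme.Hom.flat_appLE (W.1.ι ≫ b) U.2 (isAffineOpen_top W.1.toScheme)
    (hT.trans fun x hx => hle hx)
  rw [← Hom.appLE_comp_appLE W.1.ι b U.1 W.1 ⊤ hle hT] at hf
  exact (RingHom.Flat.respectsIso.cancel_right_isIso _ _).mp hf

lemma disjoint_basicOpen_support {I : X.IdealSheafData} {U : X.affineOpens} {e : Γ(X, U.1)}
    (he : e ∈ I.ideal U) : Disjoint (X.basicOpen e : Set X) (I.support : Set X) := by
  rw [Set.disjoint_left]
  intro x hx hxI
  have hxU : x ∈ U.1 := X.basicOpen_le e hx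
  have := (IdealSheafData.mem_support_iff_of_mem hxU).mp hxI
  rw [Scheme.mem_zeroLocus_iff] at this
  exact this e he hx

lemma injective_res_basicOpen {U : X.affineOpens} {e : Γ(X, U.1)}
    (he : e ∈ nonZeroDivisors Γ(X, U.1)) :
    Function.Injective (X.presheaf.map (homOfLE (X.basicOpen_le e)).op).hom := by
  have := U.2.isLocalization_basicOpen e
  exact IsLocalization.injective (M := Submonoid.powers e) Γ(X, X.basicOpen e)
    (Submonoid.powers_le.mpr he)

/-- The inverse image of an effective Cartier ideal under a blow-up is effective Cartier. -/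
theorem isEffCartierIdeal_comap_blowUp {I D : X.IdealSheafData} {b : X' ⟶ X}
    (hb : _root_.BlowUp.IsBlowUp b I) (hD : _root_.BlowUp.IsEffCartierIdeal D) :
    _root_.BlowUp.IsEffCartierIdeal (D.comap b) := by
  intro x
  obtain ⟨U, hxU, f, hf, eD⟩ := hD (b x)
  obtain ⟨V, hxV, hV, e, he, eE⟩ := exists_cartierOn_le hb.1 (W := b ⁻¹ᵁ U.1) (x := x) hxU
  refine ⟨V, hxV, b.appLE U.1 V.1 hV f, ?_, ?_⟩
  · rw [mem_nonZeroDivisors_iff_right]
    intro z hz
    apply injective_res_basicOpen he
    rw [map_zero]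
    let W : X'.affineOpens := X'.affineBasicOpen e
    have hWV : W.1 ≤ V.1 := X'.basicOpen_le e
    have hflat := flat_appLE_of_le hb U W (hWV.trans hV)
      (disjoint_basicOpen_support (eE.ge (Ideal.mem_span_singleton_self e)))
    have hn := mem_nonZeroDivisors_of_flat _ hflat hf
    have hcomp : b.appLE U.1 V.1 hV ≫ X'.presheaf.map (homOfLE hWV).op =
        b.appLE U.1 W.1 (hWV.trans hV) := Hom.appLE_map _ _ _
    refine (mul_right_mem_nonZeroDivisors_eq_zero_iff hn).mp ?_
    rw [← hcomp, CategoryTheory.comp_apply]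
    erw [← map_mul, hz, map_zero]
    rfl
  · rw [ideal_comap_eq_map D b U V hV, eD, Ideal.map_span, Set.image_singleton]

/-- Blow-up of a product ideal. -/
theorem isBlowUp_comp_mul {I J : X.IdealSheafData} {b : X' ⟶ X} (hb : _root_.BlowUp.IsBlowUp b I)
    {b' : X'' ⟶ X'} (hb' : _root_.BlowUp.IsBlowUp b' (J.comap b)) :
    _root_.BlowUp.IsBlowUp (b' ≫ b) (I * J) := by
  refine ⟨?_, fun Y g hg => ?_⟩
  · rw [IdealSheafData.comap_comp, comap_mul, comap_mul]
    exact isEffCartierIdeal_mul (isEffCartierIdeal_comap_blowUp hb' hb.1) hb'.1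
  · rw [comap_mul] at hg
    obtain ⟨hI, hJ⟩ := isEffCartierIdeal_factors_of_mul hg
    obtain ⟨h, hh, huniq⟩ := hb.2 Y g hI
    obtain ⟨h', hh', huniq'⟩ := hb'.2 Y h (by rwa [← IdealSheafData.comap_comp, hh])
    refine ⟨h', by dsimp only; rw [reassoc_of% hh', hh], fun k hk => huniq' k ?_⟩
    exact huniq _ (by dsimp only; rw [Category.assoc, hk])

/-- Blowing up `I * D` with `D` effective Cartier is blowing up `I`. -/
theorem isBlowUp_mul_effCartier {I D : X.IdealSheafData} {b : X' ⟶ X}
    (hb : _root_.BlowUp.IsBlowUp b I) (hD : _root_.BlowUp.IsEffCartierIdeal D) :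
    _root_.BlowUp.IsBlowUp b (I * D) := by
  refine ⟨?_, fun Y g hg => hb.2 Y g ?_⟩
  · rw [comap_mul]
    exact isEffCartierIdeal_mul hb.1 (isEffCartierIdeal_comap_blowUp hb hD)
  · rw [comap_mul] at hg
    exact (isEffCartierIdeal_factors_of_mul hg).1

/-- Blow-ups commute with flat base change. -/
theorem isBlowUp_flat_baseChange {X₁ X₂ X₂' : Scheme.{u}} (g : X₁ ⟶ X₂) [Flat g]
    {I : X₂.IdealSheafData} {b : X₂' ⟶ X₂} (hb : _root_.BlowUp.IsBlowUp b I) :
    _root_.BlowUp.IsBlowUp (pullback.fst g b) (I.comap g) := by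
  refine ⟨?_, fun Y h hh => ?_⟩
  · rw [← IdealSheafData.comap_comp, pullback.condition, IdealSheafData.comap_comp]
    exact isEffCartierIdeal_comap_of_flat _ hb.1
  · rw [← IdealSheafData.comap_comp] at hh
    obtain ⟨k, hk, huniq⟩ := hb.2 Y (h ≫ g) hh
    refine ⟨pullback.lift h k hk.symm, pullback.lift_fst _ _ _, fun m hm => ?_⟩
    apply pullback.hom_ext
    · rw [pullback.lift_fst]; exact hm
    · rw [pullback.lift_snd]
      exact huniq _ (by dsimp only at hm ⊢; rw [Category.assoc, ← pullback.condition, reassoc_of% hm])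

/-- A blow-up of a reduced scheme is reduced. -/
theorem isReduced_of_isBlowUp [IsReduced X] {I : X.IdealSheafData} {b : X' ⟶ X}
    (hb : _root_.BlowUp.IsBlowUp b I) : IsReduced X' := by
  have := isIso_off_center hb
  choose V hxV hV using hb.1
  have hred : IsReduced (b ⁻¹ᵁ I.support.compl).toScheme :=
    isReduced_of_isOpenImmersion (b ∣_ I.support.compl)
  have key : ∀ x, IsReduced (V x).1.toScheme := by
    intro x
    obtain ⟨e, he, eE⟩ := hV x
    have hd := disjoint_basicOpen_support (eE.ge (Ideal.mem_span_singleton_self e))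
    have hle : X'.basicOpen e ≤ b ⁻¹ᵁ I.support.compl := fun y hy => by
      show b y ∉ I.support
      intro hby
      refine Set.disjoint_left.mp hd hy ?_
      rw [IdealSheafData.support_comap]
      exact hby
    have hW : IsReduced (X'.basicOpen e).toScheme :=
      isReduced_of_isOpenImmersion (X'.homOfLE hle)
    have : _root_.IsReduced Γ(X', X'.basicOpen e) := by
      have := hW.component_reduced ⊤
      exact isReduced_of_injective (X'.basicOpen e).topIso.inv.hom
        (ConcreteCategory.bijective_of_isIso (X'.basicOpen e).topIso.inv).1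
    have hr : _root_.IsReduced Γ(X', (V x).1) :=
      isReduced_of_injective _ (injective_res_basicOpen he)
    have : IsAffine (V x).1.toScheme := (V x).2
    have : _root_.IsReduced Γ((V x).1.toScheme, ⊤) :=
      isReduced_of_injective (V x).1.topIso.hom.hom
        (ConcreteCategory.bijective_of_isIso (V x).1.topIso.hom).1
    exact isReduced_of_isAffine_isReduced _
  let 𝒰 := (Scheme.openCoverOfIsOpenCover X' (fun x => (V x).1)
    (top_unique fun x _ => TopologicalSpace.Opens.mem_iSup.mpr ⟨x, hxV x⟩))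
  have : ∀ i, IsReduced (𝒰.X i) := key
  exact IsReduced.of_openCover X' 𝒰

/-- Points of the support of an effective Cartier ideal are never maximal points. -/
theorem notMem_support_of_maximal {D : X.IdealSheafData} (hD : _root_.BlowUp.IsEffCartierIdeal D)
    {x : X} (hx : ∀ y : X, y ⤳ x → y = x) : x ∉ D.support := by
  intro hxD
  obtain ⟨U, hxU, e, he, eE⟩ := hD x
  have hp := U.2.primeIdealOf ⟨x, hxU⟩
  have hmin : (U.2.primeIdealOf ⟨x, hxU⟩).asIdeal ∈ minimalPrimes Γ(X, U.1) := by
    refine ⟨⟨(U.2.primeIdealOf ⟨x, hxU⟩).isPrime, bot_le⟩, fun q hq hle => ?_⟩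
    let y : PrimeSpectrum Γ(X, U.1) := ⟨q, hq.1⟩
    have hs : y ⤳ U.2.primeIdealOf ⟨x, hxU⟩ :=
      (PrimeSpectrum.le_iff_specializes _ _).mp hle
    have := hs.map U.2.fromSpec.continuous
    rw [U.2.fromSpec_primeIdealOf] at this
    have he' := hx _ this
    have : y = U.2.primeIdealOf ⟨x, hxU⟩ := U.2.fromSpec.isOpenEmbedding.injective
      (he'.trans (U.2.fromSpec_primeIdealOf ⟨x, hxU⟩).symm)
    rw [← this]
  refine Set.disjoint_left.mp (Ideal.disjoint_nonZeroDivisors_of_mem_minimalPrimes hmin) ?_ he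
  by_contra hne
  have : x ∈ X.basicOpen e := by
    show ((⟨x, hxU⟩ : U.1) : X) ∈ X.basicOpen e
    rw [← U.2.fromSpec_primeIdealOf ⟨x, hxU⟩]
    have := U.2.fromSpec_preimage_basicOpen e
    change U.2.primeIdealOf ⟨x, hxU⟩ ∈ U.2.fromSpec ⁻¹ᵁ X.basicOpen e
    rw [this]
    exact hne
  exact Set.disjoint_left.mp (disjoint_basicOpen_support (eE.ge (Ideal.mem_span_singleton_self e)))
    this hxD

end GrothLib.BlowUp
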