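import Groth.Agent.Lib.BlowUp.Algebra
import Groth.Agent.Lib.BlowUp.Universal

/-!
# Blow-up of an affine scheme from a family of charts `Spec A[I/a]`
-/

universe u

open CategoryTheory Limits AlgebraicGeometry Scheme

namespace GrothLib.BlowUp

variable {A : Type u} [CommRing A] (I : Ideal A)

/-- The ideal sheaf on `Spec A` of an ideal of `A`. -/
noncomputable abbrev idealSheaf : (Spec (CommRingCat.of A)).IdealSheafData :=
  Scheme.IdealSheafData.ofIdealTop (I.map (Scheme.ΓSpecIso (CommRingCat.of A)).inv.hom)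

lemma ideal_idealSheaf_top :
    (idealSheaf I).ideal ⟨⊤, isAffineOpen_top _⟩ =
      I.map (Scheme.ΓSpecIso (CommRingCat.of A)).inv.hom := by
  simp [idealSheaf]

variable {I}

lemma comap_idealSheaf {B : Type u} [CommRing B] (φ : A →+* B) :
    (idealSheaf I).comap (Spec.map (CommRingCat.ofHom φ)) = idealSheaf (I.map φ) := by
  refine IdealSheafData.ext_of_isAffine ?_
  rw [ideal_comap_eq_map_of_isAffine, ideal_idealSheaf_top, ideal_idealSheaf_top, Ideal.map_map,
    Ideal.map_map]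
  have h := Scheme.ΓSpecIso_inv_naturality (CommRingCat.ofHom φ)
  exact congrArg (fun f : CommRingCat.of A ⟶ Γ(Spec (CommRingCat.of B), ⊤) => Ideal.map (CommRingCat.Hom.hom f) I) h.symm

lemma isEffCartierIdeal_span_singleton {s : A} (hs : s ∈ nonZeroDivisors A) :
    _root_.BlowUp.IsEffCartierIdeal (idealSheaf (Ideal.span {s})) := by
  intro x
  refine ⟨⟨⊤, isAffineOpen_top _⟩, trivial, (Scheme.ΓSpecIso (CommRingCat.of A)).inv.hom s, ?_, ?_⟩
  · exact mem_nonZeroDivisors_of_flat _ (RingHom.Flat.of_bijective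
      (ConcreteCategory.bijective_of_isIso (Scheme.ΓSpecIso (CommRingCat.of A)).inv)) hs
  · rw [ideal_idealSheaf_top, Ideal.map_span, Set.image_singleton]

/-- A family of charts `Spec A[I/a]`, `a ∈ I`, on a scheme over `Spec A`. -/
structure Charts (I : Ideal A) {P : Scheme.{u}} (π : P ⟶ Spec (CommRingCat.of A)) where
  j : ∀ a : I, Spec (CommRingCat.of ↥(_root_.BlowUp.affineAlgebra A I (a : A))) ⟶ P
  isOpenImmersion : ∀ a, IsOpenImmersion (j a)
  comp : ∀ a : I, j a ≫ π =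
    Spec.map (CommRingCat.ofHom (algebraMap A ↥(_root_.BlowUp.affineAlgebra A I (a : A))))
  covers : ∀ p : P, ∃ a, p ∈ Set.range (j a)
  overlap : ∀ (a c : I) (q : Spec (CommRingCat.of ↥(_root_.BlowUp.affineAlgebra A I (c : A)))),
    frac (c : A) a ∉ q.asIdeal → j c q ∈ Set.range (j a)

attribute [instance] Charts.isOpenImmersion

/-- `φ : A → B` sends `a` to a nonzerodivisor generating the extended ideal. -/
def IsGen {B : Type u} [CommRing B] (φ : A →+* B) (a : I) : Prop :=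
  φ a ∈ nonZeroDivisors B ∧ I.map φ = Ideal.span {φ a}

variable {P : Scheme.{u}} {π : P ⟶ Spec (CommRingCat.of A)} (C : Charts I π)

include C

lemma range_subset_of_isGen {B : Type u} [CommRing B] {φ : A →+* B} {a : I} (ha : IsGen φ a)
    (h : Spec (CommRingCat.of B) ⟶ P) (hh : h ≫ π = Spec.map (CommRingCat.ofHom φ)) :
    Set.range h ⊆ Set.range (C.j a) := by
  rintro _ ⟨p, rfl⟩
  obtain ⟨c, hc⟩ := C.covers (h p)
  obtain ⟨_, ⟨u, rfl⟩, hpu, hu⟩ := PrimeSpectrum.isTopologicalBasis_basic_opens.exists_subset_of_mem_open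
    (show p ∈ h ⁻¹' Set.range (C.j c) from hc)
    ((C.j c).isOpenEmbedding.isOpen_range.preimage h.continuous)
  let i : CommRingCat.of B ⟶ CommRingCat.of (Localization.Away u) :=
    CommRingCat.ofHom (algebraMap B (Localization.Away u))
  obtain ⟨p', hp'⟩ : p ∈ Set.range (Spec.map i) :=
    (PrimeSpectrum.localization_away_comap_range (Localization.Away u) u).ge hpu
  have hrange : Set.range (Spec.map i ≫ h) ⊆ Set.range (C.j c) := by
    rintro _ ⟨t, rfl⟩
    exact hu ((PrimeSpectrum.localization_away_comap_range (Localization.Away u) u).le ⟨t, rfl⟩)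
  let k := IsOpenImmersion.lift (C.j c) (Spec.map i ≫ h) hrange
  have hk : k ≫ C.j c = Spec.map i ≫ h := IsOpenImmersion.lift_fac _ _ _
  obtain ⟨ψ, hψ⟩ : ∃ ψ, Spec.map ψ = k := ⟨Spec.preimage k, Spec.map_preimage k⟩
  have hcomp : ψ.hom.comp (algebraMap A _) = (algebraMap B (Localization.Away u)).comp φ := by
    have : Spec.map (CommRingCat.ofHom (algebraMap A _) ≫ ψ) = Spec.map (CommRingCat.ofHom φ ≫ i) := by
      rw [Spec.map_comp, Spec.map_comp, hψ, ← C.comp c, ← Category.assoc, hk, Category.assoc, hh]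
    exact congrArg CommRingCat.Hom.hom (Spec.map_injective this)
  set φ' := (algebraMap B (Localization.Away u)).comp φ
  have hn : φ' a ∈ nonZeroDivisors (Localization.Away u) :=
    mem_nonZeroDivisors_of_flat _ (RingHom.flat_algebraMap_iff.mpr inferInstance) ha.1
  obtain ⟨d, hd⟩ : φ' a ∣ φ' c := by
    obtain ⟨d, hd⟩ := Ideal.mem_span_singleton.mp (ha.2.le (Ideal.mem_map_of_mem φ c.2))
    exact ⟨algebraMap B _ d, by simp only [φ', RingHom.comp_apply, hd, map_mul]⟩
  have key : φ' c * ψ.hom (frac (c : A) a) = φ' a := by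
    rw [← hcomp, RingHom.comp_apply, ← map_mul, algebraMap_mul_frac]
    rfl
  have hu' : IsUnit (ψ.hom (frac (c : A) a)) := by
    refine .of_mul_eq_one d ((mul_cancel_left_mem_nonZeroDivisors hn).mp ?_)
    conv_rhs => rw [mul_one, ← key, hd]
    ring
  rw [← hp', ← Scheme.Hom.comp_apply, ← hk, Scheme.Hom.comp_apply, ← hψ]
  exact C.overlap a c _ fun hmem => p'.isPrime.ne_top (Ideal.eq_top_of_isUnit_mem _ hmem hu')

lemma exists_hom_of_isGen {B : Type u} [CommRing B] {φ : A →+* B} {a : I} (ha : IsGen φ a) :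
    ∃ h : Spec (CommRingCat.of B) ⟶ P, h ≫ π = Spec.map (CommRingCat.ofHom φ) := by
  obtain ⟨ψ, hψ⟩ := exists_lift_affineAlgebra (a : A) φ ha.1 ha.2.le
  refine ⟨Spec.map (CommRingCat.ofHom ψ) ≫ C.j a, ?_⟩
  rw [Category.assoc, C.comp, ← Spec.map_comp, ← CommRingCat.ofHom_comp, hψ]

lemma hom_unique_of_isGen {B : Type u} [CommRing B] {φ : A →+* B} {a : I} (ha : IsGen φ a)
    {h h' : Spec (CommRingCat.of B) ⟶ P} (hh : h ≫ π = Spec.map (CommRingCat.ofHom φ))
    (hh' : h' ≫ π = Spec.map (CommRingCat.ofHom φ)) : h = h' := by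
  have e : ∀ (g : Spec (CommRingCat.of B) ⟶ P) (_ : g ≫ π = Spec.map (CommRingCat.ofHom φ)),
      ∃ ψ : ↥(_root_.BlowUp.affineAlgebra A I (a : A)) →+* B,
        ψ.comp (algebraMap A _) = φ ∧ g = Spec.map (CommRingCat.ofHom ψ) ≫ C.j a := by
    intro g hg
    let k := IsOpenImmersion.lift (C.j a) g (range_subset_of_isGen C ha g hg)
    have hk : k ≫ C.j a = g := IsOpenImmersion.lift_fac _ _ _
    obtain ⟨ψ, hψ⟩ : ∃ ψ, Spec.map ψ = k := ⟨Spec.preimage k, Spec.map_preimage k⟩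
    refine ⟨ψ.hom, ?_, by rw [CommRingCat.ofHom_hom, hψ, hk]⟩
    have : Spec.map (CommRingCat.ofHom (algebraMap A _) ≫ ψ) = Spec.map (CommRingCat.ofHom φ) := by
      rw [Spec.map_comp, hψ, ← C.comp a, ← Category.assoc, hk, hg]
    exact congrArg CommRingCat.Hom.hom (Spec.map_injective this)
  obtain ⟨ψ, hψ, rfl⟩ := e h hh
  obtain ⟨ψ', hψ', rfl⟩ := e h' hh'
  rw [hom_ext_affineAlgebra (a : A) φ ha.1 hψ hψ']

omit C in
lemma exists_isGen_near {T : Scheme.{u}} (g : T ⟶ Spec (CommRingCat.of A))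
    (hg : _root_.BlowUp.IsEffCartierIdeal ((idealSheaf I).comap g)) (x : T) :
    ∃ (V : T.affineOpens) (φ : A →+* Γ(T, V.1)) (a : I),
      x ∈ V.1 ∧ V.2.fromSpec ≫ g = Spec.map (CommRingCat.ofHom φ) ∧ IsGen φ a := by
  obtain ⟨V, hxV, s, hs, eV⟩ := hg x
  obtain ⟨φ, hφ⟩ : ∃ φ : A →+* Γ(T, V.1), V.2.fromSpec ≫ g = Spec.map (CommRingCat.ofHom φ) :=
    ⟨(Spec.preimage (V.2.fromSpec ≫ g)).hom, by rw [CommRingCat.ofHom_hom, Spec.map_preimage]⟩
  have hmap : I.map φ = Ideal.span {s} := by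
    have h1 : ((idealSheaf I).comap g).comap V.2.fromSpec = idealSheaf (I.map φ) := by
      rw [← IdealSheafData.comap_comp, hφ, comap_idealSheaf]
    have h2 := congrArg (fun J => IdealSheafData.ideal J ⟨⊤, isAffineOpen_top _⟩) h1
    replace h2 := h2.trans (ideal_idealSheaf_top _)
    rw [ideal_comap_eq_map _ V.2.fromSpec V ⟨⊤, isAffineOpen_top _⟩
      (by exact V.2.fromSpec_preimage_self.ge), eV] at h2
    have h3 : V.2.fromSpec.appLE V.1 ⊤ (by exact V.2.fromSpec_preimage_self.ge) =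
        (Scheme.ΓSpecIso Γ(T, V.1)).inv := by
      simp only [Hom.appLE, IsAffineOpen.fromSpec_app_self, Category.assoc, ← Functor.map_comp]
      refine (congrArg _ ?_).trans (Category.comp_id _)
      exact (congrArg _ (Subsingleton.elim _ (𝟙 _))).trans (CategoryTheory.Functor.map_id _ _)
    rw [h3] at h2
    have hb : Function.Bijective (Scheme.ΓSpecIso Γ(T, V.1)).inv.hom :=
      ConcreteCategory.bijective_of_isIso _
    exact ((Ideal.comap_map_of_bijective _ hb).symm.trans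
      ((congrArg (Ideal.comap (Scheme.ΓSpecIso Γ(T, V.1)).inv.hom) h2.symm).trans
        (Ideal.comap_map_of_bijective _ hb)))
  let S : Set Γ(T, V.1) := {c | ∃ a : I, φ a = c * s}
  have hS : Ideal.span S = ⊤ := by
    rw [Ideal.eq_top_iff_one]
    have key : ∀ z ∈ I.map φ, ∃ c ∈ Ideal.span S, z = c * s := by
      intro z hz
      refine Submodule.span_induction ?_ ⟨0, zero_mem _, (zero_mul s).symm⟩ ?_ ?_ hz
      · rintro _ ⟨a, ha, rfl⟩
        obtain ⟨c, hc⟩ := Ideal.mem_span_singleton.mp (hmap.le (Ideal.mem_map_of_mem φ ha))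
        exact ⟨c, Ideal.subset_span ⟨⟨a, ha⟩, by rw [mul_comm]; exact hc⟩, by rw [mul_comm]; exact hc⟩
      · rintro _ _ _ _ ⟨c, hc, rfl⟩ ⟨d, hd, rfl⟩
        exact ⟨c + d, add_mem hc hd, (add_mul c d s).symm⟩
      · rintro r _ _ ⟨c, hc, rfl⟩
        exact ⟨r * c, Ideal.mul_mem_left _ r hc, (mul_assoc r c s).symm⟩
    obtain ⟨c, hc, hcs⟩ := key s (hmap.ge (Ideal.mem_span_singleton_self s))
    rwa [(mul_cancel_right_mem_nonZeroDivisors hs).mp ((one_mul s).trans hcs)]
  obtain ⟨c, ⟨a, hac⟩, hxc⟩ : ∃ c ∈ S, x ∈ T.basicOpen c := by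
    have := (V.2.self_le_iSup_basicOpen_iff (s := S)).mpr hS hxV
    obtain ⟨⟨c, hc⟩, hxc⟩ := TopologicalSpace.Opens.mem_iSup.mp this
    exact ⟨c, hc, hxc⟩
  let W : T.affineOpens := T.affineBasicOpen c
  have hWV : W.1 ≤ V.1 := T.basicOpen_le c
  set r := (T.presheaf.map (homOfLE hWV).op).hom with hr
  have hcu : IsUnit (r c) :=
    RingedSpace.isUnit_res_basicOpen (X := T.toLocallyRingedSpace.toRingedSpace) c
  refine ⟨W, r.comp φ, a, hxc, ?_, ?_, ?_⟩
  · rw [← V.2.map_fromSpec W.2 (homOfLE hWV).op, Category.assoc, hφ, ← Spec.map_comp]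
    rfl
  · rw [RingHom.comp_apply, hac, map_mul]
    exact mul_mem hcu.mem_nonZeroDivisors (mem_nonZeroDivisors_of_flat _ (flat_res hWV) hs)
  · rw [← Ideal.map_map, hmap, Ideal.map_span, Set.image_singleton, RingHom.comp_apply, hac,
      map_mul, Ideal.span_singleton_mul_left_unit hcu]

lemma hom_unique {T : Scheme.{u}} (g : T ⟶ Spec (CommRingCat.of A))
    (hg : _root_.BlowUp.IsEffCartierIdeal ((idealSheaf I).comap g))
    {h h' : T ⟶ P} (hh : h ≫ π = g) (hh' : h' ≫ π = g) : h = h' := by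
  choose V φ a hxV hV ha using exists_isGen_near g hg
  refine Scheme.Cover.hom_ext (Scheme.openCoverOfIsOpenCover T (fun x => (V x).1)
    (top_unique fun x _ => TopologicalSpace.Opens.mem_iSup.mpr ⟨x, hxV x⟩)) _ _ fun x => ?_
  show (V x).1.ι ≫ h = (V x).1.ι ≫ h'
  rw [← cancel_epi (V x).2.isoSpec.inv, IsAffineOpen.isoSpec_inv_ι_assoc,
    IsAffineOpen.isoSpec_inv_ι_assoc]
  exact hom_unique_of_isGen C (ha x) (by rw [Category.assoc, hh, hV]) (by rw [Category.assoc, hh', hV])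

lemma isEffCartierIdeal_comap :
    _root_.BlowUp.IsEffCartierIdeal ((idealSheaf I).comap π) := by
  refine isEffCartierIdeal_of_forall_exists_open fun p => ?_
  obtain ⟨a, ha⟩ := C.covers p
  refine ⟨(C.j a).opensRange, ha, ?_⟩
  have e : (C.j a).opensRange.ι = (C.j a).isoOpensRange.inv ≫ C.j a :=
    (Scheme.Hom.isoOpensRange_inv_comp (C.j a)).symm
  rw [← IdealSheafData.comap_comp, e, Category.assoc, C.comp, IdealSheafData.comap_comp,
    comap_idealSheaf, map_eq_span _ a.2]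
  exact isEffCartierIdeal_comap_of_flat _
    (isEffCartierIdeal_span_singleton (algebraMap_mem_nonZeroDivisors _))

theorem Charts.isBlowUp : _root_.BlowUp.IsBlowUp π (idealSheaf I) := by
  refine ⟨isEffCartierIdeal_comap C, fun T g hg => ?_⟩
  choose V φ a hxV hV ha using exists_isGen_near g hg
  choose h hh using fun x => exists_hom_of_isGen C (ha x)
  let 𝒰 : T.OpenCover := Scheme.openCoverOfIsOpenCover T (fun x => (V x).1)
    (top_unique fun x _ => TopologicalSpace.Opens.mem_iSup.mpr ⟨x, hxV x⟩)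
  let f : ∀ x : T, (V x).1.toScheme ⟶ P := fun x => (V x).2.isoSpec.hom ≫ h x
  have hf : ∀ x, f x ≫ π = (V x).1.ι ≫ g := fun x => by
    rw [Category.assoc, hh, ← hV, ← Category.assoc, IsAffineOpen.isoSpec_hom_fromSpec]
  have compat : ∀ x y : T, pullback.fst (V x).1.ι (V y).1.ι ≫ f x =
      pullback.snd (V x).1.ι (V y).1.ι ≫ f y := by
    intro x y
    refine hom_unique C ((pullback.fst (V x).1.ι (V y).1.ι ≫ (V x).1.ι) ≫ g) ?_ ?_ ?_
    · rw [IdealSheafData.comap_comp]
      exact isEffCartierIdeal_comap_of_flat _ hg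
    · simp only [Category.assoc, hf]
    · simp only [Category.assoc, hf, pullback.condition_assoc]
  refine ⟨𝒰.glueMorphisms f compat, ?_, fun k hk => ?_⟩
  · refine 𝒰.hom_ext _ _ fun x => ?_
    rw [Scheme.Cover.ι_glueMorphisms_assoc]
    exact hf x
  · refine hom_unique C g hg hk ?_
    refine 𝒰.hom_ext _ _ fun x => ?_
    rw [Scheme.Cover.ι_glueMorphisms_assoc]
    exact hf x

end GrothLib.BlowUp
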