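import Groth.Prelude.Def_Rees
import Groth.Prelude.Def_ega3
import Groth.Agent.Lib.BlowUp.Affine

/-!
# `Proj` of the Rees algebra is the blow-up of an affine scheme
-/

universe u

open CategoryTheory AlgebraicGeometry Polynomial

namespace GrothLib.BlowUp

variable {A : Type u} [CommRing A] (I : Ideal A)

/-- `a X ∈ R(I)` for `a ∈ I`. -/
noncomputable def tX (a : I) : reesAlgebra I :=
  ⟨monomial 1 (a : A), reesAlgebra.monomial_mem.mpr (by rw [pow_one]; exact a.2)⟩

lemma monomial_mem_deg {n : ℕ} {c : A} (hc : monomial n c ∈ reesAlgebra I) :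
    (⟨monomial n c, hc⟩ : reesAlgebra I) ∈ Rees.deg (reesAlgebra I) n := by
  rw [Rees.mem_deg_iff]
  intro m hm
  exact coeff_monomial_of_ne c hm

lemma tX_mem (a : I) : tX I a ∈ Rees.deg (reesAlgebra I) 1 := monomial_mem_deg I _

lemma exists_eq_monomial {n : ℕ} {y : reesAlgebra I} (hy : y ∈ Rees.deg (reesAlgebra I) n) :
    ∃ c ∈ I ^ n, (y : A[X]) = monomial n c := by
  refine ⟨(y : A[X]).coeff n, y.2 n, Polynomial.ext fun m => ?_⟩
  rw [coeff_monomial]
  split_ifs with h
  · rw [h]
  · exact (Rees.mem_deg_iff _ _ _).mp hy m (Ne.symm h)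

/-- Evaluation of the Rees variable at `1`. -/
noncomputable def ev : reesAlgebra I →+* A :=
  (evalRingHom 1).comp (reesAlgebra I).toSubring.subtype

lemma ev_of_eq_monomial {n : ℕ} {c : A} {y : reesAlgebra I} (h : (y : A[X]) = monomial n c) :
    ev I y = c := by
  show eval 1 (y : A[X]) = c
  rw [h]; simp

lemma ev_tX (a : I) : ev I (tX I a) = (a : A) := ev_of_eq_monomial I rfl

/-- The map `R(I)_{aX} → A_a`. -/
noncomputable def bigMap (a : I) : Localization.Away (tX I a) →+* Localization.Away (a : A) :=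
  IsLocalization.map (M := Submonoid.powers (tX I a)) (T := Submonoid.powers (a : A)) _ (ev I)
    (Submonoid.powers_le.mpr
      (show ev I (tX I a) ∈ Submonoid.powers (a : A) by rw [ev_tX]; exact Submonoid.mem_powers _))

/-- The map `(R(I)_{aX})₀ → A_a`. -/
noncomputable def awayMap₀ (a : I) :
    HomogeneousLocalization.Away (Rees.deg (reesAlgebra I)) (tX I a) →+* Localization.Away (a : A) :=
  (bigMap I a).comp (algebraMap _ (Localization.Away (tX I a)))

lemma awayMap₀_mk (a : I) (n : ℕ) (y : reesAlgebra I) (hy : y ∈ Rees.deg (reesAlgebra I) (n • 1)) :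
    awayMap₀ I a (HomogeneousLocalization.Away.mk _ (tX_mem I a) n y hy) =
      IsLocalization.mk' (Localization.Away (a : A)) (ev I y)
        (⟨(a : A) ^ n, Submonoid.pow_mem _ (Submonoid.mem_powers _) n⟩ : Submonoid.powers (a : A)) := by
  rw [awayMap₀, RingHom.comp_apply, HomogeneousLocalization.algebraMap_apply,
    HomogeneousLocalization.Away.val_mk, Localization.mk_eq_mk', bigMap, IsLocalization.map_mk']
  congr 1
  apply Subtype.ext
  show ev I (tX I a ^ n) = (a : A) ^ n
  rw [map_pow, ev_tX]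

lemma awayMap₀_mem (a : I) (z : HomogeneousLocalization.Away (Rees.deg (reesAlgebra I)) (tX I a)) :
    awayMap₀ I a z ∈ _root_.BlowUp.affineAlgebra A I (a : A) := by
  obtain ⟨n, y, hy, rfl⟩ := HomogeneousLocalization.Away.mk_surjective _ (tX_mem I a) z
  rw [awayMap₀_mk]
  obtain ⟨c, hc, e⟩ := exists_eq_monomial I (show y ∈ Rees.deg (reesAlgebra I) n by simpa using hy)
  rw [ev_of_eq_monomial I e]
  exact mk'_mem_of_mem_pow (a : A) n hc

/-- The map `(R(I)_{aX})₀ → A[I/a]`. -/
noncomputable def awayMap₁ (a : I) :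
    HomogeneousLocalization.Away (Rees.deg (reesAlgebra I)) (tX I a) →+*
      ↥(_root_.BlowUp.affineAlgebra A I (a : A)) :=
  (awayMap₀ I a).codRestrict _ (awayMap₀_mem I a)

lemma coe_awayMap₁ (a : I) (z) :
    ((awayMap₁ I a z : ↥(_root_.BlowUp.affineAlgebra A I (a : A))) : Localization.Away (a : A)) =
      awayMap₀ I a z := rfl

lemma awayMap₁_injective (a : I) : Function.Injective (awayMap₁ I a) := by
  rw [injective_iff_map_eq_zero]
  intro z hz
  obtain ⟨n, y, hy, rfl⟩ := HomogeneousLocalization.Away.mk_surjective _ (tX_mem I a) z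
  have hz' := congrArg Subtype.val hz
  rw [coe_awayMap₁, awayMap₀_mk, Subalgebra.coe_zero] at hz'
  obtain ⟨c, hc, e⟩ := exists_eq_monomial I (show y ∈ Rees.deg (reesAlgebra I) n by simpa using hy)
  rw [ev_of_eq_monomial I e] at hz'
  obtain ⟨⟨_, m, rfl⟩, hm⟩ := (IsLocalization.mk'_eq_zero_iff _ _).mp hz'
  apply HomogeneousLocalization.val_injective
  rw [HomogeneousLocalization.Away.val_mk, Localization.mk_eq_mk', HomogeneousLocalization.val_zero,
    IsLocalization.mk'_eq_zero_iff]
  refine ⟨⟨_, m, rfl⟩, Subtype.ext ?_⟩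
  show ((tX I a ^ m : reesAlgebra I) : A[X]) * (y : A[X]) = 0
  rw [SubmonoidClass.coe_pow, e]
  show monomial 1 (a : A) ^ m * monomial n c = 0
  rw [monomial_pow, monomial_mul_monomial, hm, monomial_zero_right]

lemma awayMap₁_surjective (a : I) : Function.Surjective (awayMap₁ I a) := by
  rintro ⟨z, hz⟩
  induction hz using Algebra.adjoin_induction with
  | mem z hz =>
    obtain ⟨x, hx, rfl⟩ := hz
    refine ⟨HomogeneousLocalization.Away.mk _ (tX_mem I a) 1 (tX I ⟨x, hx⟩)
      (by simpa using tX_mem I ⟨x, hx⟩), Subtype.ext ?_⟩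
    rw [coe_awayMap₁, awayMap₀_mk, ev_tX]
    simp only [pow_one]
  | algebraMap r =>
    refine ⟨HomogeneousLocalization.Away.mk _ (tX_mem I a) 0
      ⟨monomial 0 r, reesAlgebra.monomial_mem.mpr (by simp)⟩
      (by rw [zero_smul]; exact monomial_mem_deg I _), Subtype.ext ?_⟩
    rw [coe_awayMap₁, awayMap₀_mk, ev_of_eq_monomial I rfl]
    simp only [pow_zero]
    exact IsLocalization.mk'_one _ r
  | add x y hx hy e1 e2 =>
    obtain ⟨u, hu⟩ := e1
    obtain ⟨v, hv⟩ := e2
    exact ⟨u + v, by rw [map_add, hu, hv]; rfl⟩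
  | mul x y hx hy e1 e2 =>
    obtain ⟨u, hu⟩ := e1
    obtain ⟨v, hv⟩ := e2
    exact ⟨u * v, by rw [map_mul, hu, hv]; rfl⟩

instance isIso_awayMap₁ (a : I) : IsIso (CommRingCat.ofHom (awayMap₁ I a)) :=
  (RingEquiv.ofBijective (awayMap₁ I a)
    ⟨awayMap₁_injective I a, awayMap₁_surjective I a⟩).toCommRingCatIso.isIso_hom

lemma irrelevant_le_span :
    (HomogeneousIdeal.irrelevant (Rees.deg (reesAlgebra I))).toIdeal ≤
      Ideal.span (Set.range (tX I)) := by
  classical
  have key : ∀ (n : ℕ) (x : A), x ∈ I ^ (n + 1) → ∀ hm : monomial (n + 1) x ∈ reesAlgebra I,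
      (⟨monomial (n + 1) x, hm⟩ : reesAlgebra I) ∈ Ideal.span (Set.range (tX I)) := by
    intro n x hx
    rw [pow_succ] at hx
    refine Submodule.mul_induction_on' (C := fun x _ => ∀ hm : monomial (n + 1) x ∈ reesAlgebra I,
      (⟨monomial (n + 1) x, hm⟩ : reesAlgebra I) ∈ Ideal.span (Set.range (tX I))) ?_ ?_ hx
    · intro y hy z hz hm
      have : (⟨monomial (n + 1) (y * z), hm⟩ : reesAlgebra I) =
          ⟨monomial n y, reesAlgebra.monomial_mem.mpr hy⟩ * tX I ⟨z, hz⟩ :=
        Subtype.ext (by simp [tX, monomial_mul_monomial])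
      rw [this]
      exact Ideal.mul_mem_left _ _ (Ideal.subset_span ⟨_, rfl⟩)
    · intro y hy' z hz' hy hz hm
      have h1 : monomial (n + 1) y ∈ reesAlgebra I :=
        reesAlgebra.monomial_mem.mpr (by rw [pow_succ]; exact hy')
      have h2 : monomial (n + 1) z ∈ reesAlgebra I :=
        reesAlgebra.monomial_mem.mpr (by rw [pow_succ]; exact hz')
      have : (⟨monomial (n + 1) (y + z), hm⟩ : reesAlgebra I) =
          ⟨monomial (n + 1) y, h1⟩ + ⟨monomial (n + 1) z, h2⟩ := Subtype.ext (by simp)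
      rw [this]
      exact add_mem (hy h1) (hz h2)
  intro z hz
  rw [← DirectSum.sum_support_decompose (Rees.deg (reesAlgebra I)) z]
  refine Ideal.sum_mem _ fun c _ => ?_
  rcases c with _ | n
  · have h0 : (DirectSum.decompose (Rees.deg (reesAlgebra I)) z 0 : reesAlgebra I) = 0 := hz
    rw [h0]; exact zero_mem _
  · set y := (DirectSum.decompose (Rees.deg (reesAlgebra I)) z (n + 1))
    obtain ⟨x, hx, e⟩ := exists_eq_monomial I y.2
    have : (y : reesAlgebra I) = ⟨monomial (n + 1) x, e ▸ (y : reesAlgebra I).2⟩ := Subtype.ext e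
    rw [this]
    exact key n x hx _

/-- The standard charts of `Proj R(I)`. -/
noncomputable def reesCharts :
    Charts I (Proj (Rees.deg (reesAlgebra I)) ↘ Spec (CommRingCat.of A)) where
  j a := Spec.map (CommRingCat.ofHom (awayMap₁ I a)) ≫
    Proj.awayι _ (tX I a) (tX_mem I a) Nat.one_pos
  isOpenImmersion a := inferInstance
  comp a := by
    show (Spec.map (CommRingCat.ofHom (awayMap₁ I a)) ≫ Proj.awayι _ (tX I a) _ _) ≫
      Proj.toSpecZero _ ≫ Spec.map _ = _
    rw [Category.assoc, Proj.awayι_toSpecZero_assoc, ← Spec.map_comp, ← Spec.map_comp,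
      ← CommRingCat.ofHom_comp, ← CommRingCat.ofHom_comp]
    congr 2
    refine RingHom.ext fun r => Subtype.ext ?_
    show awayMap₀ I a (HomogeneousLocalization.fromZeroRingHom _ _ (algebraMap A _ r)) =
      algebraMap A (Localization.Away (a : A)) r
    rw [awayMap₀, RingHom.comp_apply, HomogeneousLocalization.algebraMap_apply, bigMap]
    change IsLocalization.map (Localization.Away (a : A)) (ev I) _
      (Localization.mk ((algebraMap A (Rees.deg (reesAlgebra I) 0) r : Rees.deg (reesAlgebra I) 0) :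
        reesAlgebra I) 1) = _
    rw [Localization.mk_one_eq_algebraMap, IsLocalization.map_eq]
    congr 1
    show eval 1 ((algebraMap A (reesAlgebra I) r : reesAlgebra I) : A[X]) = r
    simp
  covers p := by
    have := (Proj.iSup_basicOpen_eq_top (Rees.deg (reesAlgebra I)) (tX I) (irrelevant_le_span I)).ge
      (Set.mem_univ p)
    obtain ⟨a, ha⟩ := TopologicalSpace.Opens.mem_iSup.mp this
    rw [← Proj.opensRange_awayι _ _ (tX_mem I a) Nat.one_pos] at ha
    obtain ⟨q, hq⟩ := ha
    exact ⟨a, (inv (Spec.map (CommRingCat.ofHom (awayMap₁ I a)))) q, by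
      rw [← Scheme.Hom.comp_apply, IsIso.inv_hom_id_assoc]; exact hq⟩
  overlap a c q hq := by
    have h1 : Spec.map (CommRingCat.ofHom (awayMap₁ I c)) q ∈
        PrimeSpectrum.basicOpen (HomogeneousLocalization.Away.isLocalizationElem (tX_mem I c) (tX_mem I a)) := by
      show awayMap₁ I c _ ∉ q.asIdeal
      have e : awayMap₁ I c (HomogeneousLocalization.Away.isLocalizationElem (tX_mem I c) (tX_mem I a)) =
          frac (c : A) a := by
        apply Subtype.ext
        rw [coe_awayMap₁, awayMap₀_mk, map_pow, ev_tX]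
        simp only [pow_one]
        rfl
      rwa [e]
    rw [← Proj.awayι_preimage_basicOpen (Rees.deg (reesAlgebra I)) (tX_mem I c) Nat.one_pos
      (tX_mem I a) Nat.one_pos, ← Proj.opensRange_awayι _ _ (tX_mem I a) Nat.one_pos] at h1
    obtain ⟨q', hq'⟩ := h1
    exact ⟨(inv (Spec.map (CommRingCat.ofHom (awayMap₁ I a)))) q', by
      rw [← Scheme.Hom.comp_apply, IsIso.inv_hom_id_assoc]; exact hq'⟩

theorem isBlowUp_proj :
    _root_.BlowUp.IsBlowUp (Proj (Rees.deg (reesAlgebra I)) ↘ Spec (CommRingCat.of A))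
      (idealSheaf I) :=
  (reesCharts I).isBlowUp

end GrothLib.BlowUp
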