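import Groth.Agent.Lib.BlowUp.Exists
import Mathlib.AlgebraicGeometry.Morphisms.ClosedImmersion

/-!
# Blow-ups of closed subschemes: strict transforms are closed subschemes
-/

universe u

open CategoryTheory Limits AlgebraicGeometry

namespace GrothLib.BlowUp

variable {A A' : Type u} [CommRing A] [CommRing A'] {I : Ideal A}

/-- Charts on any blow-up of an affine scheme. -/
noncomputable def chartsOfIsBlowUp {P : Scheme.{u}} {π : P ⟶ Spec (CommRingCat.of A)}
    (hπ : _root_.BlowUp.IsBlowUp π (idealSheaf I)) : Charts I π :=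
  let h := exists_iso_of_isBlowUp (isBlowUp_proj I) hπ
  let e := h.choose
  { j := fun a => (reesCharts I).j a ≫ e.hom
    isOpenImmersion := fun a =>
      haveI := (reesCharts I).isOpenImmersion a
      inferInstance
    comp := fun a => by rw [Category.assoc, h.choose_spec, (reesCharts I).comp]
    covers := fun p => by
      obtain ⟨a, q, hq⟩ := (reesCharts I).covers (e.inv p)
      refine ⟨a, q, ?_⟩
      rw [Scheme.Hom.comp_apply, hq, ← Scheme.Hom.comp_apply, Iso.inv_hom_id]
      rfl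
    overlap := fun a c q hq => by
      obtain ⟨q', hq'⟩ := (reesCharts I).overlap a c q hq
      exact ⟨q', by rw [Scheme.Hom.comp_apply, hq', Scheme.Hom.comp_apply]⟩ }

variable {φ : A →+* A'}

lemma surjective_of_comp_eq (hφ : Function.Surjective φ) {a : A} (ha : a ∈ I)
    {ψ : ↥(_root_.BlowUp.affineAlgebra A I a) →+* ↥(_root_.BlowUp.affineAlgebra A' (I.map φ) (φ a))}
    (hψ : ψ.comp (algebraMap A _) = (algebraMap A' _).comp φ) : Function.Surjective ψ := by
  rintro ⟨z, hz⟩
  induction hz using Algebra.adjoin_induction with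
  | mem z hz =>
    obtain ⟨x', hx', rfl⟩ := hz
    obtain ⟨x, hx, rfl⟩ := (Ideal.mem_map_iff_of_surjective φ hφ).mp hx'
    refine ⟨frac a ⟨x, hx⟩, ?_⟩
    refine (mul_cancel_left_mem_nonZeroDivisors (algebraMap_mem_nonZeroDivisors (I := I.map φ) (φ a))).mp ?_
    refine Eq.trans ?_ (algebraMap_mul_frac (φ a) (⟨φ x, hx'⟩ : I.map φ)).symm
    rw [← RingHom.comp_apply, ← hψ, RingHom.comp_apply, ← map_mul, algebraMap_mul_frac]
    exact RingHom.congr_fun hψ x
  | algebraMap r =>
    obtain ⟨r, rfl⟩ := hφ r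
    exact ⟨algebraMap A _ r, RingHom.congr_fun hψ r⟩
  | add x y hx hy e1 e2 =>
    obtain ⟨u, hu⟩ := e1
    obtain ⟨v, hv⟩ := e2
    exact ⟨u + v, by rw [map_add, hu, hv]; rfl⟩
  | mul x y hx hy e1 e2 =>
    obtain ⟨u, hu⟩ := e1
    obtain ⟨v, hv⟩ := e2
    exact ⟨u * v, by rw [map_mul, hu, hv]; rfl⟩

variable {P P' : Scheme.{u}} {π : P ⟶ Spec (CommRingCat.of A)} {π' : P' ⟶ Spec (CommRingCat.of A')}
  (C : Charts I π) (C' : Charts (I.map φ) π')

include C C' in
lemma exists_chart_square (g : P' ⟶ P) (hg : g ≫ π = π' ≫ Spec.map (CommRingCat.ofHom φ))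
    (hφ : Function.Surjective φ) (a : I) :
    ∃ ψ : ↥(_root_.BlowUp.affineAlgebra A I (a : A)) →+*
        ↥(_root_.BlowUp.affineAlgebra A' (I.map φ) (φ a)),
      Function.Surjective ψ ∧
      C'.j ⟨φ a, Ideal.mem_map_of_mem φ a.2⟩ ≫ g = Spec.map (CommRingCat.ofHom ψ) ≫ C.j a := by
  set B' := ↥(_root_.BlowUp.affineAlgebra A' (I.map φ) (φ a))
  have hgen : IsGen ((algebraMap A' B').comp φ) a :=
    ⟨algebraMap_mem_nonZeroDivisors _,
      by rw [← Ideal.map_map, map_eq_span _ (Ideal.mem_map_of_mem φ a.2)]; rfl⟩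
  obtain ⟨ψ, hψ⟩ := exists_lift_affineAlgebra (a : A) _ hgen.1 hgen.2.le
  refine ⟨ψ, surjective_of_comp_eq hφ a.2 hψ, hom_unique_of_isGen C hgen ?_ ?_⟩
  · rw [Category.assoc, hg, ← Category.assoc, C'.comp, ← Spec.map_comp, CommRingCat.ofHom_comp]
  · rw [Category.assoc, C.comp, ← Spec.map_comp, ← CommRingCat.ofHom_comp, hψ]

include C C' in
lemma preimage_range_chart (g : P' ⟶ P) (hg : g ≫ π = π' ≫ Spec.map (CommRingCat.ofHom φ))
    (hφ : Function.Surjective φ) (a : I) :
    g ⁻¹' Set.range (C.j a) ⊆ Set.range (C'.j ⟨φ a, Ideal.mem_map_of_mem φ a.2⟩) := by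
  intro y hy
  obtain ⟨c, q, rfl⟩ := C'.covers y
  obtain ⟨_, ⟨u, rfl⟩, hqu, hu⟩ := PrimeSpectrum.isTopologicalBasis_basic_opens.exists_subset_of_mem_open
    (show q ∈ (C'.j c ≫ g) ⁻¹' Set.range (C.j a) by rw [Set.mem_preimage, Scheme.Hom.comp_apply]; exact hy)
    ((C.j a).isOpenEmbedding.isOpen_range.preimage (C'.j c ≫ g).continuous)
  set B' := ↥(_root_.BlowUp.affineAlgebra A' (I.map φ) (c : A'))
  let i : CommRingCat.of B' ⟶ CommRingCat.of (Localization.Away u) :=
    CommRingCat.ofHom (algebraMap B' (Localization.Away u))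
  obtain ⟨q', hq'⟩ : q ∈ Set.range (Spec.map i) :=
    (PrimeSpectrum.localization_away_comap_range (Localization.Away u) u).ge hqu
  have hrange : Set.range (Spec.map i ≫ C'.j c ≫ g) ⊆ Set.range (C.j a) := by
    rintro _ ⟨t, rfl⟩
    exact hu ((PrimeSpectrum.localization_away_comap_range (Localization.Away u) u).le ⟨t, rfl⟩)
  obtain ⟨θ, hθ⟩ : ∃ θ, Spec.map θ = IsOpenImmersion.lift (C.j a) _ hrange :=
    ⟨_, Spec.map_preimage _⟩
  set φ' : A' →+* Localization.Away u := (algebraMap B' (Localization.Away u)).comp (algebraMap A' B')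
  have hc : IsGen φ' c := by
    refine ⟨mem_nonZeroDivisors_of_flat (algebraMap B' (Localization.Away u)) (RingHom.flat_algebraMap_iff.mpr (inferInstanceAs (Module.Flat B' (Localization.Away u))))
      (algebraMap_mem_nonZeroDivisors (c : A')), ?_⟩
    rw [← Ideal.map_map, map_eq_span _ c.2, Ideal.map_span, Set.image_singleton]
    rfl
  have hθ' : θ.hom.comp (algebraMap A _) = φ'.comp φ := by
    have : Spec.map (CommRingCat.ofHom (algebraMap A ↥(_root_.BlowUp.affineAlgebra A I (a : A))) ≫ θ) =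
        Spec.map (CommRingCat.ofHom φ ≫ CommRingCat.ofHom (algebraMap A' B') ≫ i) := by
      rw [Spec.map_comp, Spec.map_comp, Spec.map_comp, hθ, ← C.comp a, ← Category.assoc,
        IsOpenImmersion.lift_fac, Category.assoc, Category.assoc, hg, ← C'.comp c]
      simp only [Category.assoc]
    exact congrArg CommRingCat.Hom.hom (Spec.map_injective this)
  have hspan : (I.map φ).map φ' = Ideal.span {φ' (φ a)} := by
    rw [Ideal.map_map, ← hθ', ← Ideal.map_map, map_eq_span _ a.2, Ideal.map_span, Set.image_singleton]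
    exact congrArg (fun t => Ideal.span {t}) (RingHom.congr_fun hθ' a)
  have ha' : IsGen φ' (⟨φ a, Ideal.mem_map_of_mem φ a.2⟩ : I.map φ) := by
    obtain ⟨d, hd⟩ := Ideal.mem_span_singleton.mp (hspan.le (Ideal.mem_map_of_mem φ' c.2))
    exact ⟨(mul_mem_nonZeroDivisors.mp (hd ▸ hc.1)).1, hspan⟩
  have := range_subset_of_isGen C' ha' (Spec.map i ≫ C'.j c)
    (by rw [Category.assoc, C'.comp, ← Spec.map_comp]; rfl) ⟨q', rfl⟩
  rwa [Scheme.Hom.comp_apply, hq'] at this

/-- A morphism between blow-ups over a closed immersion is a closed immersion. -/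
theorem isClosedImmersion_map {X Y X' Y' : Scheme.{u}} (𝓘 : X.IdealSheafData) (f : Y ⟶ X)
    [IsClosedImmersion f] {b : X' ⟶ X} (hb : _root_.BlowUp.IsBlowUp b 𝓘) {b' : Y' ⟶ Y}
    (hb' : _root_.BlowUp.IsBlowUp b' (𝓘.comap f)) (f' : Y' ⟶ X') (hf' : f' ≫ b = b' ≫ f) :
    IsClosedImmersion f' := by
  have key : ∀ x' : X', ∃ (B B' : CommRingCat.{u}) (J : Spec B ⟶ X') (J' : Spec B' ⟶ Y') (ψ : B ⟶ B'),
      IsOpenImmersion J ∧ x' ∈ Set.range J ∧ IsClosedImmersion (Spec.map ψ) ∧
      IsPullback (Spec.map ψ) J' J f' := by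
    intro x'
    obtain ⟨U, hU, -⟩ := exists_affine_mem_le (W := (⊤ : X.Opens)) (x := b x') trivial
    have hW : IsAffineOpen (f ⁻¹ᵁ U.1) := U.2.preimage f
    let A : Type u := Γ(X, U.1)
    let A' : Type u := Γ(Y, f ⁻¹ᵁ U.1)
    let φ : A →+* A' := (f.app U.1).hom
    have hφ : Function.Surjective φ := (f.app_surjective U.1 U.2)
    let iX : Spec (CommRingCat.of A) ⟶ X := U.2.fromSpec
    let iY : Spec (CommRingCat.of A') ⟶ Y := hW.fromSpec
    have hsq : Spec.map (CommRingCat.ofHom φ) ≫ iX = iY ≫ f := by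
      have := IsAffineOpen.SpecMap_appLE_fromSpec f U.2 hW le_rfl
      rw [Scheme.Hom.appLE_eq_app] at this
      exact this
    obtain ⟨I, hI⟩ : ∃ I : Ideal A, 𝓘.comap iX = idealSheaf I := ⟨_, eq_idealSheaf _⟩
    have hI' : (𝓘.comap f).comap iY = idealSheaf (I.map φ) := by
      rw [← Scheme.IdealSheafData.comap_comp, ← hsq, Scheme.IdealSheafData.comap_comp, hI,
        comap_idealSheaf]
    have hp := isBlowUp_flat_baseChange iX hb
    rw [hI] at hp
    have hp' := isBlowUp_flat_baseChange iY hb'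
    rw [hI'] at hp'
    obtain ⟨C⟩ : Nonempty (Charts I (pullback.fst iX b)) := ⟨chartsOfIsBlowUp hp⟩
    obtain ⟨C'⟩ : Nonempty (Charts (I.map φ) (pullback.fst iY b')) := ⟨chartsOfIsBlowUp hp'⟩
    let g : pullback iY b' ⟶ pullback iX b :=
      pullback.lift (pullback.fst iY b' ≫ Spec.map (CommRingCat.ofHom φ)) (pullback.snd iY b' ≫ f')
        (by rw [Category.assoc, hsq, pullback.condition_assoc, Category.assoc, hf'])
    have hg : g ≫ pullback.fst iX b = pullback.fst iY b' ≫ Spec.map (CommRingCat.ofHom φ) :=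
      pullback.lift_fst _ _ _
    have hx : x' ∈ Set.range (pullback.snd iX b) := by
      rw [IsOpenImmersion.range_pullbackSnd]
      show b x' ∈ Set.range iX
      rw [U.2.range_fromSpec]
      exact hU
    obtain ⟨p, rfl⟩ := hx
    obtain ⟨a, q, rfl⟩ := C.covers p
    obtain ⟨ψ, hψ, hsquare⟩ := exists_chart_square C C' g hg hφ a
    have := C.isOpenImmersion a
    have := C'.isOpenImmersion ⟨φ a, Ideal.mem_map_of_mem φ a.2⟩
    refine ⟨_, _, C.j a ≫ pullback.snd iX b,
      C'.j ⟨φ a, Ideal.mem_map_of_mem φ a.2⟩ ≫ pullback.snd iY b', CommRingCat.ofHom ψ,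
      inferInstance, ⟨q, by rw [Scheme.Hom.comp_apply]⟩, IsClosedImmersion.spec_of_surjective _ hψ, ?_⟩
    refine IsOpenImmersion.isPullback _ _ _ _ ?_ ?_
    · rw [← reassoc_of% hsquare, Category.assoc, pullback.lift_snd]
    · ext y
      simp only [TopologicalSpace.Opens.map_coe, Scheme.Hom.coe_opensRange, Set.mem_preimage]
      constructor
      · rintro ⟨t, ht⟩
        rw [Scheme.Hom.comp_apply] at ht
        obtain ⟨r, rfl⟩ : y ∈ Set.range (pullback.snd iY b') := by
          rw [IsOpenImmersion.range_pullbackSnd]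
          show b' y ∈ Set.range iY
          rw [hW.range_fromSpec]
          show f (b' y) ∈ U.1
          rw [← Scheme.Hom.comp_apply, ← hf', Scheme.Hom.comp_apply, ← ht,
            ← Scheme.Hom.comp_apply _ b, ← pullback.condition, Scheme.Hom.comp_apply,
            ← SetLike.mem_coe, ← U.2.range_fromSpec]
          exact ⟨_, rfl⟩
        have hgr : g r = C.j a t := by
          apply (pullback.snd iX b).isOpenEmbedding.injective
          rw [ht, ← Scheme.Hom.comp_apply, pullback.lift_snd, Scheme.Hom.comp_apply]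
        obtain ⟨s, hs⟩ := preimage_range_chart C C' g hg hφ a ⟨t, hgr.symm⟩
        exact ⟨s, by rw [Scheme.Hom.comp_apply, hs]⟩
      · rintro ⟨t, rfl⟩
        refine ⟨Spec.map (CommRingCat.ofHom ψ) t, ?_⟩
        rw [← Scheme.Hom.comp_apply, ← Scheme.Hom.comp_apply, ← reassoc_of% hsquare, Category.assoc,
          pullback.lift_snd]
  choose B B' J J' ψ hJ hx hψ hpb using key
  let 𝒰 : X'.OpenCover :=
    { I₀ := X'
      X := fun x => Spec (B x)
      f := J
      mem₀ := by
        rw [Scheme.presieve₀_mem_precoverage_iff]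
        exact ⟨fun x => ⟨x, hx x⟩, hJ⟩ }
  refine IsZariskiLocalAtTarget.of_openCover (P := @IsClosedImmersion) 𝒰 fun x => ?_
  have h := (hpb x).flip
  show IsClosedImmersion (pullback.snd f' (J x))
  rw [← h.isoPullback_inv_snd]
  exact (MorphismProperty.cancel_left_of_respectsIso @IsClosedImmersion _ _).mpr (hψ x)

end GrothLib.BlowUp
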