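import Groth.Agent.Lib.BlowUp.ThickFlat
import Groth.Agent.Lib.BlowUp.Functorial
import Groth.Prelude.Def_CInt
import Mathlib.AlgebraicGeometry.Morphisms.Flat

/-!
# Base change of blow-ups in centres with flat thickenings
-/

set_option autoImplicit false
set_option linter.style.haveILetI false
set_option backward.isDefEq.respectTransparency false

universe u

open CategoryTheory Limits AlgebraicGeometry TensorProduct

namespace GrothLib.BlowUp

variable {X X' S : Scheme.{u}}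

theorem appLE_SpecMap_comp_fromSpec {U : X.Opens} (hU : IsAffineOpen U) {A : CommRingCat.{u}} (ψ : Γ(X, U) ⟶ A)
    (e : (⊤ : (Spec A).Opens) ≤ (Spec.map ψ ≫ hU.fromSpec) ⁻¹ᵁ U) :
    (Spec.map ψ ≫ hU.fromSpec).appLE U ⊤ e = ψ ≫ (Scheme.ΓSpecIso A).inv := by
  simp [IsAffineOpen.fromSpec_app_of_le _ _ le_rfl, Scheme.ΓSpecIso_inv_naturality, Scheme.Hom.appLE,
    Scheme.Hom.appTop]
  rw [← Functor.map_comp]
  exact (congrArg (_ ≫ ·) ((Spec A).presheaf.map_id _)).trans (Category.comp_id _)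

theorem flat_of_equiv {R Q Q' : Type u} [CommRing R] [CommRing Q] [CommRing Q'] [Algebra R Q] [Module.Flat R Q]
    (e : Q' ≃+* Q) (φ : R →+* Q') (h : φ = e.symm.toRingHom.comp (algebraMap R Q)) : φ.Flat := by
  subst h
  exact RingHom.Flat.respectsIso.1 _ e.symm (RingHom.flat_algebraMap_iff.2 inferInstance)

/-- The exceptional divisor is flat over the base if all thickenings of the centre are. -/
theorem flat_exceptional (g : X ⟶ S) (𝓘 : X.IdealSheafData) (hflat : ∀ n : ℕ, Flat ((𝓘 ^ (n + 1)).subschemeι ≫ g))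
    (b : X' ⟶ X) (hb : _root_.BlowUp.IsBlowUp b 𝓘) : Flat ((𝓘.comap b).subschemeι ≫ b ≫ g) := by
  refine flat_of_forall_exists (b ≫ g) (𝓘.comap b) fun x => ?_
  obtain ⟨W, hW, -⟩ := exists_affine_mem_le (W := (⊤ : S.Opens)) (x := g (b x)) trivial
  obtain ⟨U, hxU, hUW⟩ := exists_affine_mem_le (W := g ⁻¹ᵁ W.1) (x := b x) hW
  let A : Type u := Γ(X, U.1)
  let q : Spec (CommRingCat.of A) ⟶ X := U.2.fromSpec
  have hb₀ := isBlowUp_flat_baseChange q hb
  let I : Ideal A := 𝓘.ideal U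
  have hI : 𝓘.comap q = idealSheaf I := by
    refine Scheme.IdealSheafData.ext_of_isAffine ?_
    have e : (⊤ : (Spec (CommRingCat.of A)).Opens) ≤ q ⁻¹ᵁ U.1 := le_of_eq U.2.fromSpec_preimage_self.symm
    rw [ideal_comap_eq_map 𝓘 q U ⟨⊤, isAffineOpen_top _⟩ e, ideal_idealSheaf_top]
    have h0 : q.appLE U.1 ⊤ e = (Scheme.ΓSpecIso (CommRingCat.of A)).inv := by
      have := appLE_SpecMap_comp_fromSpec U.2 (𝟙 Γ(X, U.1)) (by rw [Spec.map_id, Category.id_comp]; exact e)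
      simp only [Spec.map_id, Category.id_comp] at this
      exact this
    rw [h0]
  rw [hI] at hb₀
  let C := chartsOfIsBlowUp hb₀
  obtain ⟨p, hp⟩ : ∃ p, (pullback.snd q b) p = x := by
    have : x ∈ Set.range (pullback.snd q b) := by
      rw [Scheme.Pullback.range_snd]
      show b x ∈ Set.range q
      show b x ∈ Set.range U.2.fromSpec
      rw [U.2.range_fromSpec]
      exact hxU
    exact this
  obtain ⟨a, z, hz⟩ := C.covers p
  let j := C.j a ≫ pullback.snd q b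
  let ψ : CommRingCat.of A ⟶ CommRingCat.of ↥(_root_.BlowUp.affineAlgebra A I (a : A)) :=
    CommRingCat.ofHom (algebraMap A _)
  have hj : j ≫ b = Spec.map ψ ≫ q := by
    rw [Category.assoc, ← pullback.condition, ← Category.assoc, C.comp]
  let V : X'.affineOpens := ⟨j.opensRange, isAffineOpen_opensRange j⟩
  have hVU : V.1 ≤ b ⁻¹ᵁ U.1 := by
    rintro _ ⟨w, rfl⟩
    show b (j w) ∈ (U.1 : Set X)
    rw [← Scheme.Hom.comp_apply, hj, Scheme.Hom.comp_apply, ← U.2.range_fromSpec]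
    exact ⟨_, rfl⟩
  have e₂ : V.1 ≤ (b ≫ g) ⁻¹ᵁ W.1 := fun w hw => hUW (hVU hw)
  refine ⟨W, V, e₂, ⟨z, by rw [Scheme.Hom.comp_apply, hz, hp]⟩, ?_⟩
  -- the chart
  letI : Algebra Γ(S, W.1) A := (g.appLE W.1 U.1 hUW).hom.toAlgebra
  have hfl : ∀ n, Module.Flat Γ(S, W.1) (A ⧸ I ^ (n + 1)) := fun n => by
    haveI := hflat n
    have h1 := flat_quot_of_flat g (𝓘 ^ (n + 1)) W U hUW
    rw [show (𝓘 ^ (n + 1)).ideal U = I ^ (n + 1) by simp [I]] at h1
    exact RingHom.flat_algebraMap_iff.1 h1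
  have hC := flat_exceptional_chart (R := Γ(S, W.1)) I (a : A) a.2 hfl
  have htop : (⊤ : (Spec (CommRingCat.of ↥(_root_.BlowUp.affineAlgebra A I (a : A)))).Opens) ≤ j ⁻¹ᵁ V.1 :=
    fun w _ => ⟨w, rfl⟩
  let θ := j.appLE V.1 ⊤ htop ≫ (Scheme.ΓSpecIso _).hom
  haveI : IsIso (j.appLE V.1 ⊤ htop) := by
    rw [Scheme.Hom.appLE]
    haveI : IsIso (j.app V.1) := j.isIso_app V.1 le_rfl
    haveI : IsIso ((Spec (CommRingCat.of ↥(_root_.BlowUp.affineAlgebra A I (a : A)))).presheaf.map (homOfLE htop).op) := by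
      have e : (⊤ : (Spec (CommRingCat.of ↥(_root_.BlowUp.affineAlgebra A I (a : A)))).Opens) = j ⁻¹ᵁ V.1 :=
        le_antisymm htop le_top
      rw [show (homOfLE htop).op = (eqToHom e).op from Subsingleton.elim _ _]
      infer_instance
    infer_instance
  have hθ : b.appLE U.1 V.1 hVU ≫ θ = ψ := by
    have h1 : b.appLE U.1 V.1 hVU ≫ j.appLE V.1 ⊤ htop = (j ≫ b).appLE U.1 ⊤ (fun w hw => hVU (htop hw)) :=
      Scheme.Hom.appLE_comp_appLE _ _ _ _ _ _ _
    have h2 : ∀ (f : Spec (CommRingCat.of ↥(_root_.BlowUp.affineAlgebra A I (a : A))) ⟶ X) (e' : ⊤ ≤ f ⁻¹ᵁ U.1),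
        f = Spec.map ψ ≫ q → f.appLE U.1 ⊤ e' = ψ ≫ (Scheme.ΓSpecIso _).inv := by
      rintro f e' rfl
      exact appLE_SpecMap_comp_fromSpec U.2 ψ e'
    rw [← Category.assoc, h1, h2 _ _ hj, Category.assoc, Iso.inv_hom_id, Category.comp_id]
  have hb2 := ConcreteCategory.bijective_of_isIso θ
  have hideal : (𝓘.comap b).ideal V = (Ideal.span {algebraMap A ↥(_root_.BlowUp.affineAlgebra A I (a : A)) a}).comap θ.hom := by
    rw [ideal_comap_eq_map 𝓘 b U V hVU, ← map_eq_span (a : A) a.2]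
    show Ideal.map (b.appLE U.1 V.1 hVU).hom I = Ideal.comap θ.hom (Ideal.map ψ.hom I)
    have : Ideal.map ψ.hom I = Ideal.map θ.hom (Ideal.map (b.appLE U.1 V.1 hVU).hom I) := by
      rw [← hθ]; exact (Ideal.map_map _ _).symm
    rw [this, Ideal.comap_map_of_bijective _ hb2]
  let e : (Γ(X', V.1) ⧸ (𝓘.comap b).ideal V) ≃+*
      ↥(_root_.BlowUp.affineAlgebra A I (a : A)) ⧸ Ideal.span {algebraMap A ↥(_root_.BlowUp.affineAlgebra A I (a : A)) a} :=
    Ideal.quotientEquiv _ _ (RingEquiv.ofBijective θ.hom hb2) (by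
      rw [hideal]
      exact (Ideal.map_comap_of_surjective _ hb2.2 _).symm)
  have hcomp : (Ideal.Quotient.mk ((𝓘.comap b).ideal V)).comp ((b ≫ g).appLE W.1 V.1 e₂).hom =
      e.symm.toRingHom.comp (algebraMap Γ(S, W.1)
        (↥(_root_.BlowUp.affineAlgebra A I (a : A)) ⧸ Ideal.span {algebraMap A ↥(_root_.BlowUp.affineAlgebra A I (a : A)) a})) := by
    refine RingHom.ext fun r => ?_
    apply e.injective
    rw [RingHom.comp_apply, RingHom.comp_apply]
    show _ = e (e.symm _)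
    rw [RingEquiv.apply_symm_apply, ← Scheme.Hom.appLE_comp_appLE b g W.1 U.1 V.1 hUW hVU]
    show Ideal.Quotient.mk _ (θ.hom ((b.appLE U.1 V.1 hVU).hom ((g.appLE W.1 U.1 hUW).hom r))) = _
    rw [← RingHom.comp_apply θ.hom, ← CommRingCat.hom_comp, hθ]
    rfl
  haveI := hC
  exact flat_of_equiv (Q := ↥(_root_.BlowUp.affineAlgebra A I (a : A)) ⧸
      Ideal.span {algebraMap A ↥(_root_.BlowUp.affineAlgebra A I (a : A)) a})
    (Q' := Γ(X', V.1) ⧸ (𝓘.comap b).ideal V) e _ hcomp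

/-- A relative effective Cartier ideal stays effective Cartier after every base change. -/
theorem isEffCartierIdeal_comap_baseChange {P P₁ S₁ : Scheme.{u}} {p : P₁ ⟶ P} {f₁ : P₁ ⟶ S₁} {f : P ⟶ S}
    {s : S₁ ⟶ S} (H : IsPullback p f₁ f s) {I : P.IdealSheafData} (hI : _root_.BlowUp.IsEffCartierIdeal I)
    [Flat (I.subschemeι ≫ f)] : _root_.BlowUp.IsEffCartierIdeal (I.comap p) := by
  intro x
  obtain ⟨W, hW, -⟩ := exists_affine_mem_le (W := (⊤ : S.Opens)) (x := f (p x)) trivial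
  obtain ⟨V, hxV, hVW, c, hc, hIV⟩ := exists_cartierOn_le hI (W := f ⁻¹ᵁ W.1) (x := p x) hW
  have hs : f₁ x ∈ s ⁻¹ᵁ W.1 := by
    show s (f₁ x) ∈ W.1
    rw [← Scheme.Hom.comp_apply, ← H.w, Scheme.Hom.comp_apply]
    exact hW
  obtain ⟨T, hxT, hTW⟩ := exists_affine_mem_le (W := s ⁻¹ᵁ W.1) (x := f₁ x) hs
  let O : P₁.Opens := p ⁻¹ᵁ V.1 ⊓ f₁ ⁻¹ᵁ T.1
  have hpo := (isIso_pushoutSection_iff H hTW hVW rfl).1
    (isIso_pushoutSection_of_isAffineOpen H hTW hVW (UY := O) rfl W.2 T.2 V.2)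
  have hO : IsAffineOpen O := by
    haveI : IsAffine W.1.toScheme := W.2
    haveI : IsAffine T.1.toScheme := T.2
    haveI : IsAffine V.1.toScheme := V.2
    exact .of_isIso (Scheme.Hom.isPullback_resLE H hTW hVW (UY := O) rfl).isoPullback.hom
  refine ⟨⟨O, hO⟩, ⟨hxV, hxT⟩, p.appLE V.1 O inf_le_left c, ?_, ?_⟩
  · letI : Algebra Γ(S, W.1) Γ(P, V.1) := (f.appLE W.1 V.1 hVW).hom.toAlgebra
    letI : Algebra Γ(S, W.1) Γ(S₁, T.1) := (s.appLE W.1 T.1 hTW).hom.toAlgebra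
    have hfl := flat_quot_of_flat f I W V hVW
    rw [hIV] at hfl
    haveI : Module.Flat Γ(S, W.1) (Γ(P, V.1) ⧸ Ideal.span {c}) := RingHom.flat_algebraMap_iff.1 hfl
    have hinj := injective_smul_tensor (R := Γ(S, W.1)) hc (Γ(S₁, T.1))
    have htp := CommRingCat.isPushout_tensorProduct Γ(S, W.1) Γ(P, V.1) Γ(S₁, T.1)
    let e := htp.isoIsPushout _ _ hpo
    have he : (CommRingCat.ofHom Algebra.TensorProduct.includeLeftRingHom) ≫ e.hom = p.appLE V.1 O inf_le_left :=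
      htp.inl_isoIsPushout_hom _ _ hpo
    have hc' : (c ⊗ₜ[Γ(S, W.1)] (1 : Γ(S₁, T.1))) ∈ nonZeroDivisors (Γ(P, V.1) ⊗[Γ(S, W.1)] Γ(S₁, T.1)) := by
      rw [mem_nonZeroDivisors_iff_right]
      intro z hz
      refine hinj ?_
      show c • z = c • 0
      rw [smul_zero, ← hz, mul_comm, Algebra.smul_def]
      rfl
    rw [← he]
    exact mem_nonZeroDivisors_of_flat e.hom.hom (RingHom.Flat.of_bijective (ConcreteCategory.bijective_of_isIso e.hom)) hc'
  · rw [ideal_comap_eq_map I p V ⟨O, hO⟩ inf_le_left, hIV, Ideal.map_span, Set.image_singleton]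

/-- Blow-ups in centres with flat thickenings commute with every base change. -/
theorem isBlowUp_baseChangeOver (g : X ⟶ S) (𝓘 : X.IdealSheafData) (hflat : ∀ n : ℕ, Flat ((𝓘 ^ (n + 1)).subschemeι ≫ g))
    (b : X' ⟶ X) (hb : _root_.BlowUp.IsBlowUp b 𝓘) {S₁ : Scheme.{u}} (s : S₁ ⟶ S) :
    _root_.BlowUp.IsBlowUp (CInt.baseChangeOver b g s) (𝓘.comap (pullback.fst g s)) := by
  let bT := CInt.baseChangeOver b g s
  have h1 : bT ≫ pullback.fst g s = pullback.fst (b ≫ g) s ≫ b := by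
    simp [bT, CInt.baseChangeOver]
  have h2 : bT ≫ pullback.snd g s = pullback.snd (b ≫ g) s := by
    simp [bT, CInt.baseChangeOver]
  have hbig : IsPullback (pullback.fst (b ≫ g) s) (bT ≫ pullback.snd g s) (b ≫ g) s := by
    rw [h2]; exact IsPullback.of_hasPullback _ _
  have hsq : IsPullback (pullback.fst (b ≫ g) s) bT b (pullback.fst g s) :=
    IsPullback.of_bot hbig h1.symm (IsPullback.of_hasPullback g s)
  haveI : Flat ((𝓘.comap b).subschemeι ≫ b ≫ g) := flat_exceptional g 𝓘 hflat b hb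
  refine ⟨?_, fun Y h hh => ?_⟩
  · rw [← Scheme.IdealSheafData.comap_comp, h1, Scheme.IdealSheafData.comap_comp]
    exact isEffCartierIdeal_comap_baseChange (IsPullback.of_hasPullback (b ≫ g) s) hb.1
  · rw [← Scheme.IdealSheafData.comap_comp] at hh
    obtain ⟨k, hk, huniq⟩ := hb.2 Y (h ≫ pullback.fst g s) hh
    refine ⟨hsq.lift k h hk, hsq.lift_snd _ _ _, fun m hm => ?_⟩
    refine hsq.hom_ext ?_ (by rw [hsq.lift_snd]; exact hm)
    rw [hsq.lift_fst]
    refine huniq _ ?_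
    show (m ≫ pullback.fst (b ≫ g) s) ≫ b = h ≫ pullback.fst g s
    rw [Category.assoc, ← h1, ← Category.assoc, hm]

end GrothLib.BlowUp
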