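import Groth.Agent.Lib.BlowUp.StalkIdeal

/-!
# Flatness of a scheme along a relative effective Cartier divisor
-/

universe u

open CategoryTheory AlgebraicGeometry

namespace GrothLib.BlowUp

variable {X S : Scheme.{u}} {f : X ⟶ S} {I : X.IdealSheafData}

lemma flat_ι_comp_of_stalks (W : X.Opens) (h : ∀ x ∈ W, (f.stalkMap x).hom.Flat) :
    Flat (W.ι ≫ f) := by
  rw [Flat.iff_flat_stalkMap]
  intro x
  rw [Scheme.Hom.stalkMap_comp]
  erw [CommRingCat.hom_comp]
  exact RingHom.Flat.comp (h _ x.2)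
    (RingHom.Flat.of_bijective (ConcreteCategory.bijective_of_isIso (W.ι.stalkMap x)))

lemma flat_appLE_of_stalks (U : S.affineOpens) (W : X.affineOpens) (hle : W.1 ≤ f ⁻¹ᵁ U.1)
    (h : ∀ x ∈ W.1, (f.stalkMap x).hom.Flat) : (f.appLE U.1 W.1 hle).hom.Flat := by
  have := flat_ι_comp_of_stalks (f := f) W.1 h
  have hT : (⊤ : W.1.toScheme.Opens) ≤ W.1.ι ⁻¹ᵁ W.1 := by simp
  have : IsAffine W.1.toScheme := W.2
  have hf := Scheme.Hom.flat_appLE (W.1.ι ≫ f) U.2 (isAffineOpen_top W.1.toScheme)
    (hT.trans fun x hx => hle hx)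
  rw [← Scheme.Hom.appLE_comp_appLE W.1.ι f U.1 W.1 ⊤ hle hT] at hf
  exact (RingHom.Flat.respectsIso.cancel_right_isIso _ _).mp hf

/-- A morphism flat along a relative effective Cartier divisor and outside of it is flat. -/
theorem flat_of_flat_off (hI : _root_.BlowUp.IsEffCartierIdeal I) [Flat (I.subschemeι ≫ f)]
    (hflat : ∀ x : X, x ∉ I.support → (f.stalkMap x).hom.Flat) : Flat f := by
  rw [HasRingHomProperty.iff_exists_appLE (P := @Flat)
    (RingHom.Flat.stableUnderComposition.stableUnderCompositionWithLocalizationAway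
      RingHom.Flat.holdsForLocalizationAway).1]
  intro x
  obtain ⟨U, hU, -⟩ := exists_affine_mem_le (W := (⊤ : S.Opens)) (x := f x) trivial
  obtain ⟨V, hxV, hV, g, hg, eg⟩ := exists_cartierOn_le hI (W := f ⁻¹ᵁ U.1) (x := x) hU
  refine ⟨U, V, hxV, hV, ?_⟩
  let W : X.affineOpens := X.affineBasicOpen g
  have hWV : W.1 ≤ V.1 := X.basicOpen_le g
  have h1 := flat_quot_of_flat f I U V hV
  rw [eg] at h1
  have h2 := flat_appLE_of_stalks (f := f) U W (hWV.trans hV) fun y hy =>
    hflat y (Set.disjoint_left.mp (disjoint_basicOpen_support (eg.ge (Ideal.mem_span_singleton_self g))) hy)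
  rw [← Scheme.Hom.appLE_map f hV (homOfLE hWV).op] at h2
  let L : Type u := Γ(X, X.basicOpen g)
  algebraize [(f.appLE U.1 V.1 hV).hom]
  let algL : Algebra Γ(X, V.1) L := (X.presheaf.map (homOfLE hWV).op).hom.toAlgebra
  let algR : Algebra Γ(S, U.1) L :=
    ((X.presheaf.map (homOfLE hWV).op).hom.comp (f.appLE U.1 V.1 hV).hom).toAlgebra
  have : IsScalarTower Γ(S, U.1) Γ(X, V.1) L := IsScalarTower.of_algebraMap_eq fun r => rfl
  have : IsLocalization.Away g L := V.2.isLocalization_basicOpen g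
  have : Module.Flat Γ(S, U.1) L := h2
  have : Module.Flat Γ(S, U.1) (Γ(X, V.1) ⧸ Ideal.span {g}) := RingHom.flat_algebraMap_iff.mp h1
  exact RingHom.flat_algebraMap_iff.mpr (flat_of_flat_away hg L)

/-- A relative effective Cartier divisor makes the total space flat at its points with Noetherian
local ring. -/
theorem flat_stalkMap_of_noetherian (hI : _root_.BlowUp.IsEffCartierIdeal I)
    [Flat (I.subschemeι ≫ f)] (d : I.subscheme)
    [IsNoetherianRing (X.presheaf.stalk (I.subschemeι d))] :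
    (f.stalkMap (I.subschemeι d)).hom.Flat := by
  obtain ⟨V, hV, g, hg, eg⟩ := hI (I.subschemeι d)
  have hgn := germ_mem_nonZeroDivisors hg hV
  set γ := X.presheaf.germ V.1 (I.subschemeι d) hV g
  have hker : RingHom.ker (I.subschemeι.stalkMap d).hom = Ideal.span {γ} := by
    rw [ker_stalkMap_subschemeι I d V hV, eg, Ideal.map_span, Set.image_singleton]
  have hgm : γ ∈ IsLocalRing.maximalIdeal (X.presheaf.stalk (I.subschemeι d)) := by
    intro hu
    have := hu.map (I.subschemeι.stalkMap d).hom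
    rw [RingHom.mem_ker.mp (hker.ge (Ideal.mem_span_singleton_self γ))] at this
    exact not_isUnit_zero this
  have hcomp : ((I.subschemeι ≫ f).stalkMap d).hom.Flat := Flat.stalkMap _ _
  rw [Scheme.Hom.stalkMap_comp] at hcomp
  erw [CommRingCat.hom_comp] at hcomp
  algebraize [(f.stalkMap (I.subschemeι d)).hom]
  let e : X.presheaf.stalk (I.subschemeι d) ⧸ Ideal.span {γ} ≃+* I.subscheme.presheaf.stalk d :=
    (Ideal.quotEquivOfEq hker.symm).trans
      (RingHom.quotientKerEquivOfSurjective (surjective_stalkMap_subschemeι I d))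
  have hq : ((Ideal.Quotient.mk (Ideal.span {γ})).comp (f.stalkMap (I.subschemeι d)).hom).Flat := by
    have h3 : (e.symm.toRingHom.comp
        ((I.subschemeι.stalkMap d).hom.comp (f.stalkMap (I.subschemeι d)).hom)).Flat :=
      RingHom.Flat.comp hcomp (RingHom.Flat.of_bijective (f := e.symm.toRingHom) e.symm.bijective)
    have hm : (Ideal.Quotient.mk (Ideal.span {γ})).comp (f.stalkMap (I.subschemeι d)).hom =
        e.symm.toRingHom.comp
          ((I.subschemeι.stalkMap d).hom.comp (f.stalkMap (I.subschemeι d)).hom) := by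
      refine RingHom.ext fun r => ?_
      simp only [RingHom.comp_apply, RingEquiv.toRingHom_eq_coe, RingHom.coe_coe]
      rw [RingEquiv.eq_symm_apply]
      rfl
    rw [hm]
    exact h3
  have : Module.Flat (S.presheaf.stalk (f (I.subschemeι d)))
      (X.presheaf.stalk (I.subschemeι d) ⧸ Ideal.span {γ}) := RingHom.flat_algebraMap_iff.mp hq
  exact RingHom.flat_algebraMap_iff.mpr (flat_of_flat_quot_noetherian hgn hgm)

end GrothLib.BlowUp
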