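import Groth.Agent.Lib.BlowUp.Algebra
import Groth.Agent.Lib.BlowUp.StalkIdeal
import Mathlib.RingTheory.Flat.Basic

/-!
# The exceptional divisor of a blow-up in a centre with flat thickenings is flat
-/

set_option autoImplicit false
set_option linter.style.haveILetI false

universe u

open TensorProduct

namespace GrothLib.BlowUp

variable {R A : Type u} [CommRing R] [CommRing A] [Algebra R A] (I : Ideal A)

theorem flat_quot_pow (hI : ∀ n, Module.Flat R (A ⧸ I ^ (n + 1))) : ∀ n, Module.Flat R (A ⧸ I ^ n)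
  | 0 => by
    haveI : Subsingleton (A ⧸ I ^ 0) := by
      rw [Ideal.Quotient.subsingleton_iff, pow_zero, Ideal.one_eq_top]
    infer_instance
  | n + 1 => hI n

/-- `I ^ m → A / I ^ (m + 1)`. -/
noncomputable def powToQuot (m : ℕ) : (I ^ m : Ideal A).restrictScalars R →ₗ[R] A ⧸ I ^ (m + 1) :=
  ((Submodule.mkQ (I ^ (m + 1))).restrictScalars R).comp ((I ^ m : Ideal A).restrictScalars R).subtype

theorem flat_range_powToQuot (hI : ∀ n, Module.Flat R (A ⧸ I ^ (n + 1))) (m : ℕ) :
    Module.Flat R (LinearMap.range (powToQuot (R := R) I m)) := by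
  haveI := hI m
  haveI := flat_quot_pow I hI m
  refine flat_of_exact_left (LinearMap.range (powToQuot (R := R) I m)).subtype Subtype.val_injective
    ((Submodule.factor (Ideal.pow_le_pow_right (Nat.le_succ m))).restrictScalars R)
    (Submodule.factor_surjective (Ideal.pow_le_pow_right (Nat.le_succ m))) fun x => ?_
  obtain ⟨x, rfl⟩ := Submodule.mkQ_surjective _ x
  constructor
  · intro hx
    have : x ∈ I ^ m := (Submodule.Quotient.mk_eq_zero _).1 hx
    exact ⟨⟨_, ⟨⟨x, this⟩, rfl⟩⟩, rfl⟩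
  · rintro ⟨⟨_, ⟨y, rfl⟩⟩, hy⟩
    change Submodule.mkQ _ (y : A) = Submodule.mkQ _ x at hy
    rw [← hy]
    exact (Submodule.Quotient.mk_eq_zero _).2 y.2

variable (a : A)

/-- The carrier of `A[I/a]`. -/
abbrev BA : Type u := ↥(_root_.BlowUp.affineAlgebra A I a)

/-- `y ↦ y / a ^ n` from `I ^ n` to `A[I/a] / (a)`. -/
noncomputable def toExc (n : ℕ) :
    (I ^ n : Ideal A).restrictScalars R →ₗ[R] (BA I a) ⧸ Ideal.span {algebraMap A (BA I a) a} where
  toFun y := Ideal.Quotient.mk _ ⟨IsLocalization.mk' (Localization.Away a) (y : A)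
    (⟨a ^ n, Submonoid.pow_mem _ (Submonoid.mem_powers a) n⟩ : Submonoid.powers a), mk'_mem_of_mem_pow a n y.2⟩
  map_add' x y := by
    rw [← map_add]
    refine congrArg _ (Subtype.ext ?_)
    show IsLocalization.mk' _ ((x : A) + y) _ = IsLocalization.mk' _ (x : A) _ + IsLocalization.mk' _ (y : A) _
    rw [IsLocalization.mk'_eq_mul_mk'_one, map_add, add_mul, ← IsLocalization.mk'_eq_mul_mk'_one,
      ← IsLocalization.mk'_eq_mul_mk'_one]
  map_smul' r y := by
    rw [RingHom.id_apply]
    show Submodule.Quotient.mk _ = r • Submodule.Quotient.mk _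
    rw [← Submodule.Quotient.mk_smul]
    refine congrArg _ (Subtype.ext ?_)
    show IsLocalization.mk' _ (r • (y : A)) _ = r • IsLocalization.mk' _ (y : A) _
    rw [Algebra.smul_def, IsLocalization.mk'_eq_mul_mk'_one, map_mul, mul_assoc, ← IsLocalization.mk'_eq_mul_mk'_one,
      ← IsScalarTower.algebraMap_apply, ← Algebra.smul_def]

/-- Raising the exponent. -/
noncomputable def raise (ha : a ∈ I) (n N : ℕ) :
    (I ^ n : Ideal A).restrictScalars R →ₗ[R] (I ^ (n + N) : Ideal A).restrictScalars R where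
  toFun y := ⟨a ^ N * y, by
    rw [Submodule.restrictScalars_mem, add_comm, pow_add]
    exact Ideal.mul_mem_mul (Ideal.pow_mem_pow ha N) y.2⟩
  map_add' x y := Subtype.ext (mul_add _ _ _)
  map_smul' r y := Subtype.ext (mul_smul_comm r _ _)

theorem toExc_raise (ha : a ∈ I) (n N : ℕ) :
    (toExc (R := R) I a (n + N)).comp (raise I a ha n N) = toExc I a n := by
  refine LinearMap.ext fun y => congrArg (Ideal.Quotient.mk _) (Subtype.ext ?_)
  refine IsLocalization.mk'_eq_of_eq ?_
  show a ^ (n + N) * (y : A) = a ^ n * (a ^ N * (y : A))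
  rw [pow_add, mul_assoc]

theorem exists_pow_rep (ha : a ∈ I) (c : (BA I a)) : ∃ (n : ℕ) (x : A) (hx : x ∈ I ^ n),
    (c : Localization.Away a) = IsLocalization.mk' (Localization.Away a) x
      (⟨a ^ n, Submonoid.pow_mem _ (Submonoid.mem_powers a) n⟩ : Submonoid.powers a) := by
  obtain ⟨c, hc⟩ := c
  induction hc using Algebra.adjoin_induction with
  | mem z hz =>
    obtain ⟨x, hx, rfl⟩ := hz
    exact ⟨1, x, by simpa using hx, IsLocalization.mk'_eq_of_eq (by simp)⟩
  | algebraMap r =>
    exact ⟨0, r, by simp, by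
      rw [show (⟨a ^ 0, Submonoid.pow_mem _ (Submonoid.mem_powers a) 0⟩ : Submonoid.powers a) = 1
        from Subtype.ext (pow_zero a), IsLocalization.mk'_one]⟩
  | add x y hx hy e1 e2 =>
    obtain ⟨n, u, hu, eu⟩ := e1
    obtain ⟨m, v, hv, ev⟩ := e2
    refine ⟨n + m, u * a ^ m + v * a ^ n, add_mem ?_ ?_, ?_⟩
    · rw [pow_add]; exact Ideal.mul_mem_mul hu (Ideal.pow_mem_pow ha m)
    · rw [add_comm, pow_add]; exact Ideal.mul_mem_mul hv (Ideal.pow_mem_pow ha n)
    · change x + y = _
      rw [show x = _ from eu, show y = _ from ev, ← IsLocalization.mk'_add]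
      exact congrArg _ (Subtype.ext (pow_add a n m).symm)
  | mul x y hx hy e1 e2 =>
    obtain ⟨n, u, hu, eu⟩ := e1
    obtain ⟨m, v, hv, ev⟩ := e2
    refine ⟨n + m, u * v, by rw [pow_add]; exact Ideal.mul_mem_mul hu hv, ?_⟩
    change x * y = _
    rw [show x = _ from eu, show y = _ from ev, ← IsLocalization.mk'_mul]
    exact congrArg _ (Subtype.ext (pow_add a n m).symm)

theorem exists_rep_tensor (ha : a ∈ I) (J : Ideal R) (z : ((BA I a) ⧸ Ideal.span {algebraMap A (BA I a) a}) ⊗[R] J) :
    ∃ n, ∃ w, (toExc (R := R) I a n).rTensor J w = z := by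
  have hraise : ∀ n N w, (toExc (R := R) I a (n + N)).rTensor J ((raise I a ha n N).rTensor J w) =
      (toExc (R := R) I a n).rTensor J w := fun n N w => by
    rw [← LinearMap.comp_apply, ← LinearMap.rTensor_comp, toExc_raise]
  induction z using TensorProduct.induction_on with
  | zero => exact ⟨0, 0, map_zero _⟩
  | tmul q j =>
    obtain ⟨c, rfl⟩ := Ideal.Quotient.mk_surjective q
    obtain ⟨n, x, hx, e⟩ := exists_pow_rep I a ha c
    refine ⟨n, (⟨x, hx⟩ : (I ^ n : Ideal A).restrictScalars R) ⊗ₜ j, ?_⟩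
    rw [LinearMap.rTensor_tmul]
    exact congrArg (· ⊗ₜ j) (congrArg (Ideal.Quotient.mk _) (Subtype.ext e.symm))
  | add x y hx hy =>
    obtain ⟨n, u, rfl⟩ := hx
    obtain ⟨m, v, rfl⟩ := hy
    rw [← hraise n m u, ← hraise m n v]
    generalize (raise (R := R) I a ha n m).rTensor J u = u'
    generalize (raise (R := R) I a ha m n).rTensor J v = v'
    have : ∀ (k : ℕ) (_ : k = n + m) (v' : ↥((I ^ k : Ideal A).restrictScalars R) ⊗[R] J),
        ∃ v'', (toExc (R := R) I a (n + m)).rTensor J v'' = (toExc (R := R) I a k).rTensor J v' := by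
      rintro k rfl v'
      exact ⟨v', rfl⟩
    obtain ⟨v'', hv''⟩ := this _ (add_comm m n) v'
    exact ⟨n + m, u' + v'', by rw [map_add, hv'']⟩

/-- The exceptional divisor of the chart `A[I/a]` is flat over the base. -/
theorem flat_exceptional_chart (ha : a ∈ I) (hI : ∀ n, Module.Flat R (A ⧸ I ^ (n + 1))) :
    Module.Flat R ((BA I a) ⧸ Ideal.span {algebraMap A (BA I a) a}) := by
  rw [Module.Flat.iff_lTensor_injective]
  intro J _
  rw [injective_iff_map_eq_zero]
  intro z hz
  obtain ⟨n, w, rfl⟩ := exists_rep_tensor I a ha J z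
  let e : ∀ (M : Type u) [AddCommGroup M] [Module R M], M ⊗[R] R →ₗ[R] M := fun M _ _ => (TensorProduct.rid R M).toLinearMap
  let w' := e _ (J.subtype.lTensor _ w)
  have nat : ∀ {M N : Type u} [AddCommGroup M] [AddCommGroup N] [Module R M] [Module R N] (f : M →ₗ[R] N)
      (v : M ⊗[R] J), e N (J.subtype.lTensor N (f.rTensor J v)) = f (e M (J.subtype.lTensor M v)) := by
    intro M N _ _ _ _ f v
    induction v using TensorProduct.induction_on with
    | zero => simp
    | tmul m j => simp [e]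
    | add x y hx hy => simp only [map_add, hx, hy]
  have hw' : toExc (R := R) I a n w' = 0 := by
    show toExc (R := R) I a n (e _ (J.subtype.lTensor _ w)) = 0
    rw [← nat, hz, map_zero]
  obtain ⟨N, hN⟩ : ∃ N, a ^ N * (w' : A) ∈ I ^ (n + N + 1) := by
    obtain ⟨c, hc⟩ := Ideal.mem_span_singleton.1 (Ideal.Quotient.eq_zero_iff_mem.1 hw')
    obtain ⟨k, x, hx, e⟩ := exists_pow_rep I a ha c
    have h1 : IsLocalization.mk' (Localization.Away a) (w' : A)
        (⟨a ^ n, Submonoid.pow_mem _ (Submonoid.mem_powers a) n⟩ : Submonoid.powers a) =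
        IsLocalization.mk' (Localization.Away a) (a * x)
          (⟨a ^ k, Submonoid.pow_mem _ (Submonoid.mem_powers a) k⟩ : Submonoid.powers a) := by
      rw [IsLocalization.mk'_eq_mul_mk'_one (a * x), map_mul, mul_assoc, ← IsLocalization.mk'_eq_mul_mk'_one, ← e]
      exact congrArg Subtype.val hc
    obtain ⟨⟨_, l, rfl⟩, hl⟩ := IsLocalization.eq.1 h1
    refine ⟨l + k, ?_⟩
    have h2 : a ^ (l + k) * (w' : A) = a ^ (l + n + 1) * x := by
      calc a ^ (l + k) * (w' : A) = a ^ l * (a ^ k * w') := by ring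
        _ = a ^ l * (a ^ n * (a * x)) := hl
        _ = a ^ (l + n + 1) * x := by ring
    rw [h2, show n + (l + k) + 1 = (l + n + 1) + k by ring, pow_add I]
    exact Ideal.mul_mem_mul (Ideal.pow_mem_pow ha _) hx
  let w₁ := (raise (R := R) I a ha n N).rTensor J w
  let p := (powToQuot (R := R) I (n + N)).rangeRestrict
  have hp0 : p.rTensor J w₁ = 0 := by
    haveI := flat_range_powToQuot (R := R) I hI (n + N)
    apply Module.Flat.lTensor_preserves_injective_linearMap (M := LinearMap.range (powToQuot (R := R) I (n + N))) J.subtype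
      Subtype.val_injective
    rw [map_zero]
    apply (TensorProduct.rid R _).injective
    rw [map_zero]
    show e _ (J.subtype.lTensor _ (p.rTensor J w₁)) = 0
    rw [nat, nat]
    exact Subtype.ext ((Submodule.Quotient.mk_eq_zero _).2 hN)
  let incl : (I ^ (n + N + 1) : Ideal A).restrictScalars R →ₗ[R] (I ^ (n + N) : Ideal A).restrictScalars R :=
    Submodule.inclusion fun x hx => Ideal.pow_le_pow_right (Nat.le_succ _) hx
  have hex : Function.Exact incl p := fun y => by
    constructor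
    · intro hy
      have : (y : A) ∈ I ^ (n + N + 1) := (Submodule.Quotient.mk_eq_zero _).1 (congrArg Subtype.val hy)
      exact ⟨⟨y, this⟩, rfl⟩
    · rintro ⟨y, rfl⟩
      exact Subtype.ext ((Submodule.Quotient.mk_eq_zero _).2 y.2)
  obtain ⟨w₂, hw₂⟩ := (rTensor_exact J hex (LinearMap.surjective_rangeRestrict _) w₁).1 hp0
  have hzero : (toExc (R := R) I a (n + N)).comp incl = 0 := LinearMap.ext fun y => by
    refine Ideal.Quotient.eq_zero_iff_mem.2 (Ideal.mem_span_singleton.2
      ⟨⟨_, mk'_mem_of_mem_pow a (n + N + 1) y.2⟩, Subtype.ext ?_⟩)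
    show IsLocalization.mk' _ (y : A) _ = algebraMap A _ a * IsLocalization.mk' _ (y : A) _
    rw [IsLocalization.mul_mk'_eq_mk'_of_mul]
    refine IsLocalization.mk'_eq_of_eq ?_
    show a ^ (n + N) * (a * (y : A)) = a ^ (n + N + 1) * y
    ring
  rw [← toExc_raise (R := R) I a ha n N, LinearMap.rTensor_comp, LinearMap.comp_apply]
  show (toExc (R := R) I a (n + N)).rTensor J w₁ = 0
  rw [← hw₂, ← LinearMap.comp_apply, ← LinearMap.rTensor_comp, hzero, LinearMap.rTensor_zero, LinearMap.zero_apply]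

end GrothLib.BlowUp
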